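import Cfsg.Agent.Lib.Schur.PcData

/-! Presentation, fusion data and certificate for the Sylow 7-subgroup of the double cover. -/

set_option autoImplicit false
set_option maxRecDepth 100000
set_option linter.style.longLine false

namespace Cfsg.Lib.Chev.F4Cover.Data

open Cfsg.Lib.Schur.PcStem

/-- The generators of `seven` as words in the letters. -/
def sevenGens : List (List ℕ) :=
  [[0,47,23,24],[13,34,20,27]]

/-- The conjugating elements of `seven` as words in the letters. -/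
def sevenConj : List (List ℕ) :=
  [[0,24,23],[13,27,20]]

/-- The rules and fusion data of `seven`. -/
def seven : PcData where
  p := 7
  n := 2
  rules := [([0,0,0,0,0,0,0],[]),([1,0],[0,1]),([1,1,1,1,1,1,1],[])]
  fus := [(3,[[0],[1]],[[0,0,0,0],[1]]),(5,[[0],[1]],[[0],[1,1,1,1]])]

/-- The certificate of `seven`. -/
def sevenCert : PcCert where
  assoc := []
  feq := [(0,([0,0,0,0,0,0,0],[]),([(0,0)],[]),([(0,0),(0,0),(0,0),(0,0)],[])),(0,([1,0],[0,1]),([(0,1)],[]),([(0,1),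
    (1,1),(2,1),(3,1)],[])),(1,([1,1,1,1,1,1,1],[]),([(0,2)],[]),([(0,2),(0,2),(0,2),(0,2)],[]))]
  rows := [[3,3,3,3,3,3,3,0,0,0,0,0,0,0,0,0,0],[4,3,1,1,1,1,1,1,1,1,1,1,3,3,3,3,3,3,4,4,4,4,4,4],[6,6,6,6,6,6,6,2,2,2,
    2,2,2,2,2,2,2]]
  F := [[],[]]
  goals := [[0],[1],[2]]
  combs := [[0,0,0,0,0],[1,1,1,1,1],[2,2,2,2,2]]

end Cfsg.Lib.Chev.F4Cover.Data
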