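import Cfsg.Agent.Lib.Chev.F4Cover.DataThree
import Cfsg.Agent.Lib.Chev.F4Cover.DataFive
import Cfsg.Agent.Lib.Chev.F4Cover.DataSeven
import Mathlib.Tactic.NormNum.Prime

/-! The certificates at three, five and seven of the double cover. -/

set_option autoImplicit false
set_option maxRecDepth 100000

namespace Cfsg.Lib.Chev.F4Cover

open Cfsg.Lib.Concrete Cfsg.Lib.Schur.PcStem Data

instance : Fact (1 < 3) := ⟨by norm_num⟩
instance : Fact (1 < 5) := ⟨by norm_num⟩
instance : Fact (1 < 7) := ⟨by norm_num⟩

theorem three_check : three.check threeCert (digitVec 3 33) = true := by decide +kernel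

theorem five_check : five.check fiveCert (digitVec 5 7) = true := by decide +kernel

theorem seven_check : seven.check sevenCert (digitVec 7 7) = true := by decide +kernel

end Cfsg.Lib.Chev.F4Cover
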