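import Cfsg.Agent.Lib.Chev.F4Cover.DataTwo

/-! The certificate at two of the double cover. -/

set_option autoImplicit false
set_option maxRecDepth 100000

namespace Cfsg.Lib.Chev.F4Cover

open Cfsg.Lib.Concrete Cfsg.Lib.Schur.PcStem Data

theorem two_check : two.check twoCert (xorVec 421) = true := by decide +kernel

end Cfsg.Lib.Chev.F4Cover
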