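import Cfsg.Agent.Lib.Schur.PcData

/-! Presentation, fusion data and certificate for the Sylow 3-subgroup of the double cover. -/

set_option autoImplicit false
set_option maxRecDepth 100000
set_option linter.style.longLine false

namespace Cfsg.Lib.Chev.F4Cover.Data

open Cfsg.Lib.Schur.PcStem

/-- The generators of `three` as words in the letters. -/
def threeGens : List (List ℕ) :=
  [[26,23,15,4,0,47,0,4,15,23,26,47],[42,28,1,44,1,28,42,33,14,33],[25,22],[47,0],[30,17,25,22],[41,6,30,17,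
    25,22,25,22]]

/-- The conjugating elements of `three` as words in the letters. -/
def threeConj : List (List ℕ) :=
  [[33,14,33],[30,41,25]]

/-- The rules and fusion data of `three`. -/
def three : PcData where
  p := 3
  n := 6
  rules := [([0,0,0],[]),([1,0],[0,1]),([2,0],[0,2,3,5,5]),([3,0],[0,3,5]),([4,0],[0,4]),([5,0],[0,5]),([1,1,1],[]),
    ([2,1],[1,2,4,5,5]),([3,1],[1,3]),([4,1],[1,4,5,5]),([5,1],[1,5]),([2,2,2],[]),([3,2],[2,3]),([4,2],[2,4]),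
    ([5,2],[2,5]),([3,3,3],[]),([4,3],[3,4]),([5,3],[3,5]),([4,4,4],[]),([5,4],[4,5]),([5,5,5],[])]
  fus := [(21,[[0],[1],[2],[3],[4],[5]],[[0],[1,1],[2],[3],[4,4,5],[5]]),(27,[[0],[1],[2],[3],[4],[5]],[[0,0],[1,4,5,
    5],[2,2],[3],[4,4],[5,5]])]

/-- The certificate of `three`. -/
def threeCert : PcCert where
  assoc := [([2,0,0,0],[(0,2),(4,5),(3,5),(2,3),(1,2),(5,17),(4,17),(5,20),(6,5),(5,5),(4,3),(3,3),(2,2),(0,0),(3,17),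
    (2,17),(3,20),(1,15),(1,20)],[(1,0)]),([3,0,0,0],[(0,3),(2,5),(1,3),(4,5),(3,5),(2,3),(0,0),(1,20)],[(1,
    0)]),([2,1,0],[(0,7),(4,5),(3,5),(2,4),(1,2),(0,1),(5,19),(4,19),(5,20)],[(1,1),(0,2),(4,10),(3,10),(2,8),
    (1,7),(5,17),(4,17),(3,16),(5,20)]),([2,1,1,1],[(0,7),(4,10),(3,10),(2,9),(1,7),(5,19),(4,19),(5,20),(5,20),
    (4,9),(3,9),(2,7),(0,6),(3,19),(2,19),(3,20),(3,19),(1,18),(1,20)],[(1,6)]),([3,1,0],[(0,8),(1,3),(0,1)],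
    [(1,1),(0,3),(2,10),(1,8)]),([4,1,0],[(0,9),(3,5),(2,5),(1,4),(0,1)],[(1,1),(0,4),(1,9)]),([2,2,2,0],[(0,
    11)],[(2,2),(1,2),(0,2),(4,14),(3,14),(2,12),(5,17),(4,17),(5,20),(5,14),(4,12),(3,12),(1,11),(3,17),(1,15),
    (1,20)]),([2,2,2,1],[(0,11)],[(2,7),(1,7),(0,7),(4,14),(3,14),(2,13),(5,19),(4,19),(5,20),(5,14),(4,13),(3,
    13),(1,11),(3,19),(1,18),(1,20)]),([3,2,0],[(0,12),(1,3),(0,2),(4,17),(3,17),(4,20)],[(1,2),(0,3),(2,14),(1,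
    12),(3,17),(4,20)]),([3,2,1],[(0,12),(1,8),(0,7),(4,17),(3,17),(2,16)],[(1,7),(0,8),(1,12)])]
  feq := [(0,([1,0],[0,1]),([(0,1)],[]),([(1,1),(0,1)],[])),(0,([4,0],[0,4]),([(0,4)],[]),([(2,5),(1,4),(0,4)],[])),
    (0,([1,1,1],[]),([(0,6)],[]),([(0,6),(0,6)],[])),(0,([4,2],[2,4]),([(0,13)],[]),([(2,14),(1,13),(0,13)],
    [])),(1,([0,0,0],[]),([(0,0)],[]),([(0,0),(0,0)],[])),(1,([3,0],[0,3,5]),([(0,3)],[]),([(0,3),(2,5),(1,3)],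
    [])),(1,([2,1],[1,2,4,5,5]),([(0,7)],[]),([(1,7),(0,7),(4,14),(3,14),(2,13),(5,19),(4,19),(5,20),(5,19),(3,
    18),(3,20)],[(3,14),(2,14),(1,13),(4,14),(3,14),(2,13),(5,19),(4,19),(6,19),(5,19),(3,18),(3,20),(3,20)])),
    (1,([4,1],[1,4,5,5]),([(0,9)],[]),([(1,9),(0,9),(3,19),(2,19),(3,20),(3,19),(1,18),(1,20)],[(3,19),(2,19),
    (4,19),(3,19),(1,18),(1,20),(1,20)])),(1,([2,2,2],[]),([(0,11)],[]),([(0,11),(0,11)],[])),(1,([3,2],[2,3]),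
    ([(0,12)],[]),([(0,12),(1,12)],[]))]
  rows := [[2,5,5,3,2,17,17,20,5,5,3,3,2,0,17,17,20,15,20,0,0],[3,5,3,5,5,3,0,20,0,0],[7,5,5,4,2,1,19,19,20,1,1,2,2,
    10,10,10,10,8,8,7,7,17,17,17,17,16,16,20,20],[7,10,10,9,7,19,19,20,20,9,9,7,6,19,19,20,19,18,20,6,6],[8,3,1,
    1,1,3,3,10,10,8,8],[9,5,5,4,1,1,1,4,4,9,9],[11,2,2,2,2,2,2,14,14,14,14,12,12,17,17,17,17,20,20,14,14,12,12,
    12,12,11,11,17,17,15,15,20,20],[11,7,7,7,7,7,7,14,14,14,14,13,13,19,19,19,19,20,20,14,14,13,13,13,13,11,11,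
    19,19,18,18,20,20],[12,3,2,17,17,20,2,2,3,3,14,14,12,12,17,17,20,20],[12,8,7,17,17,16,7,7,8,8,12,12],[22,21,
    1,1,1,1,21,21,22,22],[25,21,5,4,4,4,4,21,21,25,25],[22,22,22,6,6,6,6],[25,23,14,13,13,13,13,23,23,25,25],
    [27,27,27,0,0,0,0],[30,27,3,5,3,3,3,27,27,30,30,32,32],[29,28,7,7,14,14,13,19,19,20,19,18,20,7,7,28,28,29,
    29,31,31,32,32,32,32,14,14,14,14,13,13,14,14,14,14,13,13,19,19,19,19,19,19,19,19,18,18,20,20,20,20],[31,28,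
    9,9,19,19,20,19,18,20,9,9,28,28,31,31,32,32,32,32,19,19,19,19,19,19,19,19,18,18,20,20,20,20],[29,29,29,11,
    11,11,11],[30,29,12,12,12,12,29,29,30,30]]
  F := [[],[],[],[2,32],[31],[32]]
  goals := [[0],[1],[2,2,2,32,32,32,32,32,32],[3,2,32,2,2,32,32,32,32],[4,31,31,31],[5,32,32,32],[6],[7,31,31,32,32,32,
    32],[8,2,32,2,2,32,32],[9,31,31,31,32,32,32,32],[10,32,32,32],[11],[12,2,32,2,2,32,32],[13,31,31,31],[14,32,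
    32,32],[15,2,32,2,32,2,32],[16,31,2,32,2,2,32,32,31,31],[17,32,2,32,2,2,32,32,32,32],[18,31,31,31],[19,32,
    31,31,31,32,32],[20,32,32,32]]
  combs := [[14],[10],[],[5,15],[5,11],[5,5],[12],[0,1,3,3,4,5,6,7,7,8,8,13,16],[1,2,2,3,4,5,5,7,9,9,11],[1,1,3,3,4,7,
    7,17],[4,4],[18],[19],[0,0,1,5,5,6,6,8,13],[0,1,1,5,6,8,8],[1,6,6],[0,1,1,5,6,9],[0,1,1,5,6],[1,7,7],[1,1,3,
    3,4,7,7],[1]]

end Cfsg.Lib.Chev.F4Cover.Data
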