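import Cfsg.Agent.Lib.Chev.F4Cover.Layers
import Cfsg.Agent.Lib.Chev.F4Cover.DataThree
import Cfsg.Agent.Lib.Chev.F4Cover.DataFive
import Cfsg.Agent.Lib.Chev.F4Cover.DataSeven

/-! Lower bounds for the orders of the odd Sylow subgroups of the double cover. -/

set_option autoImplicit false
set_option maxRecDepth 100000
set_option linter.style.longLine false

namespace Cfsg.Lib.Chev.F4Cover

open Cfsg.Lib.Schur.PcStem Data

theorem three_step_0 : stepOk threeGens 3 6 0 0x100000000000000000000000000000001000000000000000000000000000000000000000000000000000000000000000000000000000000000000000000000000000000010000000000000000000000000000000000000001000000000000000000000000000000000000000100000001000000010000000000000000000000000000000000000001000000010000000000000000 = true := by decide +kernel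

theorem three_step_1 : stepOk threeGens 3 6 1 0x100000000 = true := by decide +kernel

/-- Words for the base layer of `three`. -/
def threeBase : List (List ℕ) :=
  [[], [2], [2, 2, 4], [4], [2, 2, 4, 4, 5], [4, 4, 5],
    [2, 5], [2, 2, 5], [3], [2, 2, 3, 4, 4, 5], [2, 3], [3, 4, 4, 5],
    [2, 2, 3, 4], [2, 3, 5], [3, 4], [2, 2, 3, 5], [2, 4, 5, 5], [2, 2, 4, 5, 5],
    [4, 4, 5, 5], [2, 4, 4, 5, 5], [2, 2], [2, 4, 4], [3, 3], [2, 2, 4, 4],
    [2, 3, 3], [2, 3, 5, 5], [2, 3, 3, 5, 5], [2, 4], [2, 2, 3, 3, 4], [3, 3, 4],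
    [2, 2, 3, 4, 5], [4, 4], [2, 2, 3, 3, 4, 5], [2, 4, 4, 5], [4, 5], [2, 2, 3, 3, 4, 4, 5],
    [2, 4, 5], [3, 3, 4, 4, 5], [5], [2, 3, 3, 5], [2, 2, 3, 3, 5], [3, 4, 4],
    [2, 5, 5], [2, 2, 4, 5], [3, 3, 4, 4], [2, 2, 3], [2, 3, 4, 4, 5], [2, 2, 3, 3, 4, 4, 5, 5],
    [2, 3, 4, 4], [3, 4, 5], [2, 3, 4, 5, 5], [2, 3, 3, 4, 4, 5, 5], [3, 3, 5, 5], [2, 3, 3, 4, 5, 5],
    [2, 3, 4, 4, 5, 5], [2, 2, 3, 4, 4], [2, 3, 4, 5], [2, 2, 3, 4, 5, 5], [3, 3, 4, 4, 5, 5], [3, 3, 4, 5, 5],
    [2, 2, 3, 3, 5, 5], [2, 2, 3, 3, 4, 5, 5], [3, 4, 4, 5, 5], [3, 5], [2, 3, 4], [4, 5, 5],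
    [2, 2, 4, 4, 5, 5], [2, 2, 3, 4, 4, 5, 5], [2, 3, 3, 4, 4], [3, 3, 4, 5], [2, 2, 3, 3, 4, 4], [2, 3, 3, 4, 5],
    [3, 4, 5, 5], [2, 2, 5, 5], [5, 5], [2, 2, 3, 3], [2, 3, 3, 4, 4, 5], [3, 5, 5],
    [2, 2, 3, 5, 5], [3, 3, 5], [2, 3, 3, 4]]

theorem three_base : baseOk threeGens 6 2 0x10000000000000000000000000000000000000000000000000000000000000000000000000000000000000000 threeBase = true := by decide +kernel

theorem five_step_0 : stepOk fiveGens 5 2 0 0x1000000000000000000000000000000000000000000000000000000000000000000000000000000000000000000000000000000000000000000000000000000000000000000000000000000000000000000000000000000000000000000000000000000000000000000000000000000000000000000000000000000000000000000000000000000000000000000000000000000000000000000000000000000000000000600000000 = true := by decide +kernel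

theorem five_step_1 : stepOk fiveGens 5 2 1 0x100000000 = true := by decide +kernel

/-- Words for the base layer of `five`. -/
def fiveBase : List (List ℕ) :=
  [[]]

theorem five_base : baseOk fiveGens 2 2 0x1 fiveBase = true := by decide +kernel

theorem seven_step_0 : stepOk sevenGens 7 2 0 0x10000000a00000000000000000000000000000000000000000000000000000000000000000000000a0000000000000000000000000000000100000000000000000000000000000000000000000000000000000000000000010000000a00000000000000000000000000000000000000000000000000000000000000000000000000000000 = true := by decide +kernel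

theorem seven_step_1 : stepOk sevenGens 7 2 1 0x1 = true := by decide +kernel

/-- Words for the base layer of `seven`. -/
def sevenBase : List (List ℕ) :=
  [[]]

theorem seven_base : baseOk sevenGens 2 2 0x1 sevenBase = true := by decide +kernel

end Cfsg.Lib.Chev.F4Cover
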