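import Cfsg.Agent.Lib.Chev.F4Cover.Rels
import Cfsg.Agent.Lib.Chev.F4Cover.DataFive

/-! Kernel checks of the rules and conjugations of `five`, part 0. -/

set_option autoImplicit false
set_option maxRecDepth 100000
set_option linter.style.longLine false

namespace Cfsg.Lib.Chev.F4Cover

open Cfsg.Lib.Schur.PcStem Data

theorem five_rule_0 : ruleOk fiveGens five 0 = true := by decide +kernel

theorem five_rule_1 : ruleOk fiveGens five 1 = true := by decide +kernel

theorem five_rule_2 : ruleOk fiveGens five 2 = true := by decide +kernel

theorem five_fus_0_0 : fusOk fiveGens fiveConj five 0 0 = true := by decide +kernel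

theorem five_fus_0_1 : fusOk fiveGens fiveConj five 0 1 = true := by decide +kernel

theorem five_fus_1_0 : fusOk fiveGens fiveConj five 1 0 = true := by decide +kernel

theorem five_fus_1_1 : fusOk fiveGens fiveConj five 1 1 = true := by decide +kernel

end Cfsg.Lib.Chev.F4Cover
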