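import Cfsg.Agent.Lib.Chev.F4Cover.Rels
import Cfsg.Agent.Lib.Chev.F4Cover.DataThree

/-! Kernel checks of the rules and conjugations of `three`, part 0. -/

set_option autoImplicit false
set_option maxRecDepth 100000
set_option linter.style.longLine false

namespace Cfsg.Lib.Chev.F4Cover

open Cfsg.Lib.Schur.PcStem Data

theorem three_rule_0 : ruleOk threeGens three 0 = true := by decide +kernel

theorem three_rule_1 : ruleOk threeGens three 1 = true := by decide +kernel

theorem three_rule_2 : ruleOk threeGens three 2 = true := by decide +kernel

theorem three_rule_3 : ruleOk threeGens three 3 = true := by decide +kernel

theorem three_rule_4 : ruleOk threeGens three 4 = true := by decide +kernel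

theorem three_rule_5 : ruleOk threeGens three 5 = true := by decide +kernel

theorem three_rule_6 : ruleOk threeGens three 6 = true := by decide +kernel

theorem three_rule_7 : ruleOk threeGens three 7 = true := by decide +kernel

theorem three_rule_8 : ruleOk threeGens three 8 = true := by decide +kernel

theorem three_rule_9 : ruleOk threeGens three 9 = true := by decide +kernel

theorem three_rule_10 : ruleOk threeGens three 10 = true := by decide +kernel

theorem three_rule_11 : ruleOk threeGens three 11 = true := by decide +kernel

theorem three_rule_12 : ruleOk threeGens three 12 = true := by decide +kernel

theorem three_rule_13 : ruleOk threeGens three 13 = true := by decide +kernel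

theorem three_rule_14 : ruleOk threeGens three 14 = true := by decide +kernel

theorem three_rule_15 : ruleOk threeGens three 15 = true := by decide +kernel

theorem three_rule_16 : ruleOk threeGens three 16 = true := by decide +kernel

theorem three_rule_17 : ruleOk threeGens three 17 = true := by decide +kernel

theorem three_rule_18 : ruleOk threeGens three 18 = true := by decide +kernel

theorem three_rule_19 : ruleOk threeGens three 19 = true := by decide +kernel

theorem three_rule_20 : ruleOk threeGens three 20 = true := by decide +kernel

theorem three_fus_0_0 : fusOk threeGens threeConj three 0 0 = true := by decide +kernel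

theorem three_fus_0_1 : fusOk threeGens threeConj three 0 1 = true := by decide +kernel

theorem three_fus_0_2 : fusOk threeGens threeConj three 0 2 = true := by decide +kernel

theorem three_fus_0_3 : fusOk threeGens threeConj three 0 3 = true := by decide +kernel

theorem three_fus_0_4 : fusOk threeGens threeConj three 0 4 = true := by decide +kernel

theorem three_fus_0_5 : fusOk threeGens threeConj three 0 5 = true := by decide +kernel

theorem three_fus_1_0 : fusOk threeGens threeConj three 1 0 = true := by decide +kernel

theorem three_fus_1_1 : fusOk threeGens threeConj three 1 1 = true := by decide +kernel

theorem three_fus_1_2 : fusOk threeGens threeConj three 1 2 = true := by decide +kernel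

theorem three_fus_1_3 : fusOk threeGens threeConj three 1 3 = true := by decide +kernel

theorem three_fus_1_4 : fusOk threeGens threeConj three 1 4 = true := by decide +kernel

theorem three_fus_1_5 : fusOk threeGens threeConj three 1 5 = true := by decide +kernel

end Cfsg.Lib.Chev.F4Cover
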