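import Cfsg.Agent.Lib.Chev.F4Cover.Rels
import Cfsg.Agent.Lib.Chev.F4Cover.DataTwo

/-! Kernel checks of the rules and conjugations of `two`, part 0. -/

set_option autoImplicit false
set_option maxRecDepth 100000
set_option linter.style.longLine false

namespace Cfsg.Lib.Chev.F4Cover

open Cfsg.Lib.Schur.PcStem Data

theorem two_rule_0 : ruleOk twoGens two 0 = true := by decide +kernel

theorem two_rule_1 : ruleOk twoGens two 1 = true := by decide +kernel

theorem two_rule_2 : ruleOk twoGens two 2 = true := by decide +kernel

theorem two_rule_3 : ruleOk twoGens two 3 = true := by decide +kernel

theorem two_rule_4 : ruleOk twoGens two 4 = true := by decide +kernel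

theorem two_rule_5 : ruleOk twoGens two 5 = true := by decide +kernel

theorem two_rule_6 : ruleOk twoGens two 6 = true := by decide +kernel

theorem two_rule_7 : ruleOk twoGens two 7 = true := by decide +kernel

theorem two_rule_8 : ruleOk twoGens two 8 = true := by decide +kernel

theorem two_rule_9 : ruleOk twoGens two 9 = true := by decide +kernel

theorem two_rule_10 : ruleOk twoGens two 10 = true := by decide +kernel

theorem two_rule_11 : ruleOk twoGens two 11 = true := by decide +kernel

theorem two_rule_12 : ruleOk twoGens two 12 = true := by decide +kernel

theorem two_rule_13 : ruleOk twoGens two 13 = true := by decide +kernel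

theorem two_rule_14 : ruleOk twoGens two 14 = true := by decide +kernel

theorem two_rule_15 : ruleOk twoGens two 15 = true := by decide +kernel

theorem two_rule_16 : ruleOk twoGens two 16 = true := by decide +kernel

theorem two_rule_17 : ruleOk twoGens two 17 = true := by decide +kernel

theorem two_rule_18 : ruleOk twoGens two 18 = true := by decide +kernel

theorem two_rule_19 : ruleOk twoGens two 19 = true := by decide +kernel

theorem two_rule_20 : ruleOk twoGens two 20 = true := by decide +kernel

theorem two_rule_21 : ruleOk twoGens two 21 = true := by decide +kernel

theorem two_rule_22 : ruleOk twoGens two 22 = true := by decide +kernel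

theorem two_rule_23 : ruleOk twoGens two 23 = true := by decide +kernel

theorem two_rule_24 : ruleOk twoGens two 24 = true := by decide +kernel

theorem two_rule_25 : ruleOk twoGens two 25 = true := by decide +kernel

theorem two_rule_26 : ruleOk twoGens two 26 = true := by decide +kernel

theorem two_rule_27 : ruleOk twoGens two 27 = true := by decide +kernel

theorem two_rule_28 : ruleOk twoGens two 28 = true := by decide +kernel

theorem two_rule_29 : ruleOk twoGens two 29 = true := by decide +kernel

theorem two_rule_30 : ruleOk twoGens two 30 = true := by decide +kernel

theorem two_rule_31 : ruleOk twoGens two 31 = true := by decide +kernel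

theorem two_rule_32 : ruleOk twoGens two 32 = true := by decide +kernel

theorem two_rule_33 : ruleOk twoGens two 33 = true := by decide +kernel

theorem two_rule_34 : ruleOk twoGens two 34 = true := by decide +kernel

theorem two_rule_35 : ruleOk twoGens two 35 = true := by decide +kernel

theorem two_rule_36 : ruleOk twoGens two 36 = true := by decide +kernel

theorem two_rule_37 : ruleOk twoGens two 37 = true := by decide +kernel

theorem two_rule_38 : ruleOk twoGens two 38 = true := by decide +kernel

theorem two_rule_39 : ruleOk twoGens two 39 = true := by decide +kernel

theorem two_rule_40 : ruleOk twoGens two 40 = true := by decide +kernel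

theorem two_rule_41 : ruleOk twoGens two 41 = true := by decide +kernel

theorem two_rule_42 : ruleOk twoGens two 42 = true := by decide +kernel

theorem two_rule_43 : ruleOk twoGens two 43 = true := by decide +kernel

theorem two_rule_44 : ruleOk twoGens two 44 = true := by decide +kernel

theorem two_rule_45 : ruleOk twoGens two 45 = true := by decide +kernel

theorem two_rule_46 : ruleOk twoGens two 46 = true := by decide +kernel

theorem two_rule_47 : ruleOk twoGens two 47 = true := by decide +kernel

theorem two_rule_48 : ruleOk twoGens two 48 = true := by decide +kernel

theorem two_rule_49 : ruleOk twoGens two 49 = true := by decide +kernel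

theorem two_rule_50 : ruleOk twoGens two 50 = true := by decide +kernel

theorem two_rule_51 : ruleOk twoGens two 51 = true := by decide +kernel

theorem two_rule_52 : ruleOk twoGens two 52 = true := by decide +kernel

end Cfsg.Lib.Chev.F4Cover
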