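import Cfsg.Agent.Lib.Chev.F4Cover.Rels
import Cfsg.Agent.Lib.Chev.F4Cover.DataTwo

/-! Kernel checks of the rules and conjugations of `two`, part 1. -/

set_option autoImplicit false
set_option maxRecDepth 100000
set_option linter.style.longLine false

namespace Cfsg.Lib.Chev.F4Cover

open Cfsg.Lib.Schur.PcStem Data

theorem two_rule_53 : ruleOk twoGens two 53 = true := by decide +kernel

theorem two_rule_54 : ruleOk twoGens two 54 = true := by decide +kernel

theorem two_rule_55 : ruleOk twoGens two 55 = true := by decide +kernel

theorem two_rule_56 : ruleOk twoGens two 56 = true := by decide +kernel

theorem two_rule_57 : ruleOk twoGens two 57 = true := by decide +kernel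

theorem two_rule_58 : ruleOk twoGens two 58 = true := by decide +kernel

theorem two_rule_59 : ruleOk twoGens two 59 = true := by decide +kernel

theorem two_rule_60 : ruleOk twoGens two 60 = true := by decide +kernel

theorem two_rule_61 : ruleOk twoGens two 61 = true := by decide +kernel

theorem two_rule_62 : ruleOk twoGens two 62 = true := by decide +kernel

theorem two_rule_63 : ruleOk twoGens two 63 = true := by decide +kernel

theorem two_rule_64 : ruleOk twoGens two 64 = true := by decide +kernel

theorem two_rule_65 : ruleOk twoGens two 65 = true := by decide +kernel

theorem two_rule_66 : ruleOk twoGens two 66 = true := by decide +kernel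

theorem two_rule_67 : ruleOk twoGens two 67 = true := by decide +kernel

theorem two_rule_68 : ruleOk twoGens two 68 = true := by decide +kernel

theorem two_rule_69 : ruleOk twoGens two 69 = true := by decide +kernel

theorem two_rule_70 : ruleOk twoGens two 70 = true := by decide +kernel

theorem two_rule_71 : ruleOk twoGens two 71 = true := by decide +kernel

theorem two_rule_72 : ruleOk twoGens two 72 = true := by decide +kernel

theorem two_rule_73 : ruleOk twoGens two 73 = true := by decide +kernel

theorem two_rule_74 : ruleOk twoGens two 74 = true := by decide +kernel

theorem two_rule_75 : ruleOk twoGens two 75 = true := by decide +kernel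

theorem two_rule_76 : ruleOk twoGens two 76 = true := by decide +kernel

theorem two_rule_77 : ruleOk twoGens two 77 = true := by decide +kernel

theorem two_rule_78 : ruleOk twoGens two 78 = true := by decide +kernel

theorem two_rule_79 : ruleOk twoGens two 79 = true := by decide +kernel

theorem two_rule_80 : ruleOk twoGens two 80 = true := by decide +kernel

theorem two_rule_81 : ruleOk twoGens two 81 = true := by decide +kernel

theorem two_rule_82 : ruleOk twoGens two 82 = true := by decide +kernel

theorem two_rule_83 : ruleOk twoGens two 83 = true := by decide +kernel

theorem two_rule_84 : ruleOk twoGens two 84 = true := by decide +kernel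

theorem two_rule_85 : ruleOk twoGens two 85 = true := by decide +kernel

theorem two_rule_86 : ruleOk twoGens two 86 = true := by decide +kernel

theorem two_rule_87 : ruleOk twoGens two 87 = true := by decide +kernel

theorem two_rule_88 : ruleOk twoGens two 88 = true := by decide +kernel

theorem two_rule_89 : ruleOk twoGens two 89 = true := by decide +kernel

theorem two_rule_90 : ruleOk twoGens two 90 = true := by decide +kernel

theorem two_rule_91 : ruleOk twoGens two 91 = true := by decide +kernel

theorem two_rule_92 : ruleOk twoGens two 92 = true := by decide +kernel

theorem two_rule_93 : ruleOk twoGens two 93 = true := by decide +kernel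

theorem two_rule_94 : ruleOk twoGens two 94 = true := by decide +kernel

theorem two_rule_95 : ruleOk twoGens two 95 = true := by decide +kernel

theorem two_rule_96 : ruleOk twoGens two 96 = true := by decide +kernel

theorem two_rule_97 : ruleOk twoGens two 97 = true := by decide +kernel

theorem two_rule_98 : ruleOk twoGens two 98 = true := by decide +kernel

theorem two_rule_99 : ruleOk twoGens two 99 = true := by decide +kernel

theorem two_rule_100 : ruleOk twoGens two 100 = true := by decide +kernel

theorem two_rule_101 : ruleOk twoGens two 101 = true := by decide +kernel

theorem two_rule_102 : ruleOk twoGens two 102 = true := by decide +kernel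

theorem two_rule_103 : ruleOk twoGens two 103 = true := by decide +kernel

theorem two_rule_104 : ruleOk twoGens two 104 = true := by decide +kernel

theorem two_rule_105 : ruleOk twoGens two 105 = true := by decide +kernel

end Cfsg.Lib.Chev.F4Cover
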