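import Cfsg.Agent.Lib.Chev.F4Cover.Rels
import Cfsg.Agent.Lib.Chev.F4Cover.DataTwo

/-! Kernel checks of the rules and conjugations of `two`, part 2. -/

set_option autoImplicit false
set_option maxRecDepth 100000
set_option linter.style.longLine false

namespace Cfsg.Lib.Chev.F4Cover

open Cfsg.Lib.Schur.PcStem Data

theorem two_rule_106 : ruleOk twoGens two 106 = true := by decide +kernel

theorem two_rule_107 : ruleOk twoGens two 107 = true := by decide +kernel

theorem two_rule_108 : ruleOk twoGens two 108 = true := by decide +kernel

theorem two_rule_109 : ruleOk twoGens two 109 = true := by decide +kernel

theorem two_rule_110 : ruleOk twoGens two 110 = true := by decide +kernel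

theorem two_rule_111 : ruleOk twoGens two 111 = true := by decide +kernel

theorem two_rule_112 : ruleOk twoGens two 112 = true := by decide +kernel

theorem two_rule_113 : ruleOk twoGens two 113 = true := by decide +kernel

theorem two_rule_114 : ruleOk twoGens two 114 = true := by decide +kernel

theorem two_rule_115 : ruleOk twoGens two 115 = true := by decide +kernel

theorem two_rule_116 : ruleOk twoGens two 116 = true := by decide +kernel

theorem two_rule_117 : ruleOk twoGens two 117 = true := by decide +kernel

theorem two_rule_118 : ruleOk twoGens two 118 = true := by decide +kernel

theorem two_rule_119 : ruleOk twoGens two 119 = true := by decide +kernel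

theorem two_rule_120 : ruleOk twoGens two 120 = true := by decide +kernel

theorem two_rule_121 : ruleOk twoGens two 121 = true := by decide +kernel

theorem two_rule_122 : ruleOk twoGens two 122 = true := by decide +kernel

theorem two_rule_123 : ruleOk twoGens two 123 = true := by decide +kernel

theorem two_rule_124 : ruleOk twoGens two 124 = true := by decide +kernel

theorem two_rule_125 : ruleOk twoGens two 125 = true := by decide +kernel

theorem two_rule_126 : ruleOk twoGens two 126 = true := by decide +kernel

theorem two_rule_127 : ruleOk twoGens two 127 = true := by decide +kernel

theorem two_rule_128 : ruleOk twoGens two 128 = true := by decide +kernel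

theorem two_rule_129 : ruleOk twoGens two 129 = true := by decide +kernel

theorem two_rule_130 : ruleOk twoGens two 130 = true := by decide +kernel

theorem two_rule_131 : ruleOk twoGens two 131 = true := by decide +kernel

theorem two_rule_132 : ruleOk twoGens two 132 = true := by decide +kernel

theorem two_rule_133 : ruleOk twoGens two 133 = true := by decide +kernel

theorem two_rule_134 : ruleOk twoGens two 134 = true := by decide +kernel

theorem two_rule_135 : ruleOk twoGens two 135 = true := by decide +kernel

theorem two_rule_136 : ruleOk twoGens two 136 = true := by decide +kernel

theorem two_rule_137 : ruleOk twoGens two 137 = true := by decide +kernel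

theorem two_rule_138 : ruleOk twoGens two 138 = true := by decide +kernel

theorem two_rule_139 : ruleOk twoGens two 139 = true := by decide +kernel

theorem two_rule_140 : ruleOk twoGens two 140 = true := by decide +kernel

theorem two_rule_141 : ruleOk twoGens two 141 = true := by decide +kernel

theorem two_rule_142 : ruleOk twoGens two 142 = true := by decide +kernel

theorem two_rule_143 : ruleOk twoGens two 143 = true := by decide +kernel

theorem two_rule_144 : ruleOk twoGens two 144 = true := by decide +kernel

theorem two_rule_145 : ruleOk twoGens two 145 = true := by decide +kernel

theorem two_rule_146 : ruleOk twoGens two 146 = true := by decide +kernel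

theorem two_rule_147 : ruleOk twoGens two 147 = true := by decide +kernel

theorem two_rule_148 : ruleOk twoGens two 148 = true := by decide +kernel

theorem two_rule_149 : ruleOk twoGens two 149 = true := by decide +kernel

theorem two_rule_150 : ruleOk twoGens two 150 = true := by decide +kernel

theorem two_rule_151 : ruleOk twoGens two 151 = true := by decide +kernel

theorem two_rule_152 : ruleOk twoGens two 152 = true := by decide +kernel

theorem two_rule_153 : ruleOk twoGens two 153 = true := by decide +kernel

theorem two_rule_154 : ruleOk twoGens two 154 = true := by decide +kernel

theorem two_rule_155 : ruleOk twoGens two 155 = true := by decide +kernel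

theorem two_rule_156 : ruleOk twoGens two 156 = true := by decide +kernel

theorem two_rule_157 : ruleOk twoGens two 157 = true := by decide +kernel

theorem two_rule_158 : ruleOk twoGens two 158 = true := by decide +kernel

end Cfsg.Lib.Chev.F4Cover
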