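import Cfsg.Agent.Lib.Chev.F4Cover.Rels
import Cfsg.Agent.Lib.Chev.F4Cover.DataTwo

/-! Kernel checks of the rules and conjugations of `two`, part 3. -/

set_option autoImplicit false
set_option maxRecDepth 100000
set_option linter.style.longLine false

namespace Cfsg.Lib.Chev.F4Cover

open Cfsg.Lib.Schur.PcStem Data

theorem two_rule_159 : ruleOk twoGens two 159 = true := by decide +kernel

theorem two_rule_160 : ruleOk twoGens two 160 = true := by decide +kernel

theorem two_rule_161 : ruleOk twoGens two 161 = true := by decide +kernel

theorem two_rule_162 : ruleOk twoGens two 162 = true := by decide +kernel

theorem two_rule_163 : ruleOk twoGens two 163 = true := by decide +kernel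

theorem two_rule_164 : ruleOk twoGens two 164 = true := by decide +kernel

theorem two_rule_165 : ruleOk twoGens two 165 = true := by decide +kernel

theorem two_rule_166 : ruleOk twoGens two 166 = true := by decide +kernel

theorem two_rule_167 : ruleOk twoGens two 167 = true := by decide +kernel

theorem two_rule_168 : ruleOk twoGens two 168 = true := by decide +kernel

theorem two_rule_169 : ruleOk twoGens two 169 = true := by decide +kernel

theorem two_rule_170 : ruleOk twoGens two 170 = true := by decide +kernel

theorem two_rule_171 : ruleOk twoGens two 171 = true := by decide +kernel

theorem two_rule_172 : ruleOk twoGens two 172 = true := by decide +kernel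

theorem two_rule_173 : ruleOk twoGens two 173 = true := by decide +kernel

theorem two_rule_174 : ruleOk twoGens two 174 = true := by decide +kernel

theorem two_rule_175 : ruleOk twoGens two 175 = true := by decide +kernel

theorem two_rule_176 : ruleOk twoGens two 176 = true := by decide +kernel

theorem two_rule_177 : ruleOk twoGens two 177 = true := by decide +kernel

theorem two_rule_178 : ruleOk twoGens two 178 = true := by decide +kernel

theorem two_rule_179 : ruleOk twoGens two 179 = true := by decide +kernel

theorem two_rule_180 : ruleOk twoGens two 180 = true := by decide +kernel

theorem two_rule_181 : ruleOk twoGens two 181 = true := by decide +kernel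

theorem two_rule_182 : ruleOk twoGens two 182 = true := by decide +kernel

theorem two_rule_183 : ruleOk twoGens two 183 = true := by decide +kernel

theorem two_rule_184 : ruleOk twoGens two 184 = true := by decide +kernel

theorem two_rule_185 : ruleOk twoGens two 185 = true := by decide +kernel

theorem two_rule_186 : ruleOk twoGens two 186 = true := by decide +kernel

theorem two_rule_187 : ruleOk twoGens two 187 = true := by decide +kernel

theorem two_rule_188 : ruleOk twoGens two 188 = true := by decide +kernel

theorem two_rule_189 : ruleOk twoGens two 189 = true := by decide +kernel

theorem two_rule_190 : ruleOk twoGens two 190 = true := by decide +kernel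

theorem two_rule_191 : ruleOk twoGens two 191 = true := by decide +kernel

theorem two_rule_192 : ruleOk twoGens two 192 = true := by decide +kernel

theorem two_rule_193 : ruleOk twoGens two 193 = true := by decide +kernel

theorem two_rule_194 : ruleOk twoGens two 194 = true := by decide +kernel

theorem two_rule_195 : ruleOk twoGens two 195 = true := by decide +kernel

theorem two_rule_196 : ruleOk twoGens two 196 = true := by decide +kernel

theorem two_rule_197 : ruleOk twoGens two 197 = true := by decide +kernel

theorem two_rule_198 : ruleOk twoGens two 198 = true := by decide +kernel

theorem two_rule_199 : ruleOk twoGens two 199 = true := by decide +kernel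

theorem two_rule_200 : ruleOk twoGens two 200 = true := by decide +kernel

theorem two_rule_201 : ruleOk twoGens two 201 = true := by decide +kernel

theorem two_rule_202 : ruleOk twoGens two 202 = true := by decide +kernel

theorem two_rule_203 : ruleOk twoGens two 203 = true := by decide +kernel

theorem two_rule_204 : ruleOk twoGens two 204 = true := by decide +kernel

theorem two_rule_205 : ruleOk twoGens two 205 = true := by decide +kernel

theorem two_rule_206 : ruleOk twoGens two 206 = true := by decide +kernel

theorem two_rule_207 : ruleOk twoGens two 207 = true := by decide +kernel

theorem two_rule_208 : ruleOk twoGens two 208 = true := by decide +kernel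

theorem two_rule_209 : ruleOk twoGens two 209 = true := by decide +kernel

theorem two_rule_210 : ruleOk twoGens two 210 = true := by decide +kernel

theorem two_rule_211 : ruleOk twoGens two 211 = true := by decide +kernel

end Cfsg.Lib.Chev.F4Cover
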