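import Cfsg.Agent.Lib.Chev.F4Cover.Rels
import Cfsg.Agent.Lib.Chev.F4Cover.DataTwo

/-! Kernel checks of the rules and conjugations of `two`, part 4. -/

set_option autoImplicit false
set_option maxRecDepth 100000
set_option linter.style.longLine false

namespace Cfsg.Lib.Chev.F4Cover

open Cfsg.Lib.Schur.PcStem Data

theorem two_rule_212 : ruleOk twoGens two 212 = true := by decide +kernel

theorem two_rule_213 : ruleOk twoGens two 213 = true := by decide +kernel

theorem two_rule_214 : ruleOk twoGens two 214 = true := by decide +kernel

theorem two_rule_215 : ruleOk twoGens two 215 = true := by decide +kernel

theorem two_rule_216 : ruleOk twoGens two 216 = true := by decide +kernel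

theorem two_rule_217 : ruleOk twoGens two 217 = true := by decide +kernel

theorem two_rule_218 : ruleOk twoGens two 218 = true := by decide +kernel

theorem two_rule_219 : ruleOk twoGens two 219 = true := by decide +kernel

theorem two_rule_220 : ruleOk twoGens two 220 = true := by decide +kernel

theorem two_rule_221 : ruleOk twoGens two 221 = true := by decide +kernel

theorem two_rule_222 : ruleOk twoGens two 222 = true := by decide +kernel

theorem two_rule_223 : ruleOk twoGens two 223 = true := by decide +kernel

theorem two_rule_224 : ruleOk twoGens two 224 = true := by decide +kernel

theorem two_rule_225 : ruleOk twoGens two 225 = true := by decide +kernel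

theorem two_rule_226 : ruleOk twoGens two 226 = true := by decide +kernel

theorem two_rule_227 : ruleOk twoGens two 227 = true := by decide +kernel

theorem two_rule_228 : ruleOk twoGens two 228 = true := by decide +kernel

theorem two_rule_229 : ruleOk twoGens two 229 = true := by decide +kernel

theorem two_rule_230 : ruleOk twoGens two 230 = true := by decide +kernel

theorem two_rule_231 : ruleOk twoGens two 231 = true := by decide +kernel

theorem two_rule_232 : ruleOk twoGens two 232 = true := by decide +kernel

theorem two_rule_233 : ruleOk twoGens two 233 = true := by decide +kernel

theorem two_rule_234 : ruleOk twoGens two 234 = true := by decide +kernel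

theorem two_rule_235 : ruleOk twoGens two 235 = true := by decide +kernel

theorem two_rule_236 : ruleOk twoGens two 236 = true := by decide +kernel

theorem two_rule_237 : ruleOk twoGens two 237 = true := by decide +kernel

theorem two_rule_238 : ruleOk twoGens two 238 = true := by decide +kernel

theorem two_rule_239 : ruleOk twoGens two 239 = true := by decide +kernel

theorem two_rule_240 : ruleOk twoGens two 240 = true := by decide +kernel

theorem two_rule_241 : ruleOk twoGens two 241 = true := by decide +kernel

theorem two_rule_242 : ruleOk twoGens two 242 = true := by decide +kernel

theorem two_rule_243 : ruleOk twoGens two 243 = true := by decide +kernel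

theorem two_rule_244 : ruleOk twoGens two 244 = true := by decide +kernel

theorem two_rule_245 : ruleOk twoGens two 245 = true := by decide +kernel

theorem two_rule_246 : ruleOk twoGens two 246 = true := by decide +kernel

theorem two_rule_247 : ruleOk twoGens two 247 = true := by decide +kernel

theorem two_rule_248 : ruleOk twoGens two 248 = true := by decide +kernel

theorem two_rule_249 : ruleOk twoGens two 249 = true := by decide +kernel

theorem two_rule_250 : ruleOk twoGens two 250 = true := by decide +kernel

theorem two_rule_251 : ruleOk twoGens two 251 = true := by decide +kernel

theorem two_rule_252 : ruleOk twoGens two 252 = true := by decide +kernel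

theorem two_rule_253 : ruleOk twoGens two 253 = true := by decide +kernel

theorem two_rule_254 : ruleOk twoGens two 254 = true := by decide +kernel

theorem two_rule_255 : ruleOk twoGens two 255 = true := by decide +kernel

theorem two_rule_256 : ruleOk twoGens two 256 = true := by decide +kernel

theorem two_rule_257 : ruleOk twoGens two 257 = true := by decide +kernel

theorem two_rule_258 : ruleOk twoGens two 258 = true := by decide +kernel

theorem two_rule_259 : ruleOk twoGens two 259 = true := by decide +kernel

theorem two_rule_260 : ruleOk twoGens two 260 = true := by decide +kernel

theorem two_rule_261 : ruleOk twoGens two 261 = true := by decide +kernel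

theorem two_rule_262 : ruleOk twoGens two 262 = true := by decide +kernel

theorem two_rule_263 : ruleOk twoGens two 263 = true := by decide +kernel

theorem two_rule_264 : ruleOk twoGens two 264 = true := by decide +kernel

end Cfsg.Lib.Chev.F4Cover
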