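import Cfsg.Agent.Lib.Chev.F4Cover.Rels
import Cfsg.Agent.Lib.Chev.F4Cover.DataTwo

/-! Kernel checks of the rules and conjugations of `two`, part 5. -/

set_option autoImplicit false
set_option maxRecDepth 100000
set_option linter.style.longLine false

namespace Cfsg.Lib.Chev.F4Cover

open Cfsg.Lib.Schur.PcStem Data

theorem two_rule_265 : ruleOk twoGens two 265 = true := by decide +kernel

theorem two_rule_266 : ruleOk twoGens two 266 = true := by decide +kernel

theorem two_rule_267 : ruleOk twoGens two 267 = true := by decide +kernel

theorem two_rule_268 : ruleOk twoGens two 268 = true := by decide +kernel

theorem two_rule_269 : ruleOk twoGens two 269 = true := by decide +kernel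

theorem two_rule_270 : ruleOk twoGens two 270 = true := by decide +kernel

theorem two_rule_271 : ruleOk twoGens two 271 = true := by decide +kernel

theorem two_rule_272 : ruleOk twoGens two 272 = true := by decide +kernel

theorem two_rule_273 : ruleOk twoGens two 273 = true := by decide +kernel

theorem two_rule_274 : ruleOk twoGens two 274 = true := by decide +kernel

theorem two_rule_275 : ruleOk twoGens two 275 = true := by decide +kernel

theorem two_rule_276 : ruleOk twoGens two 276 = true := by decide +kernel

theorem two_rule_277 : ruleOk twoGens two 277 = true := by decide +kernel

theorem two_rule_278 : ruleOk twoGens two 278 = true := by decide +kernel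

theorem two_rule_279 : ruleOk twoGens two 279 = true := by decide +kernel

theorem two_rule_280 : ruleOk twoGens two 280 = true := by decide +kernel

theorem two_rule_281 : ruleOk twoGens two 281 = true := by decide +kernel

theorem two_rule_282 : ruleOk twoGens two 282 = true := by decide +kernel

theorem two_rule_283 : ruleOk twoGens two 283 = true := by decide +kernel

theorem two_rule_284 : ruleOk twoGens two 284 = true := by decide +kernel

theorem two_rule_285 : ruleOk twoGens two 285 = true := by decide +kernel

theorem two_rule_286 : ruleOk twoGens two 286 = true := by decide +kernel

theorem two_rule_287 : ruleOk twoGens two 287 = true := by decide +kernel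

theorem two_rule_288 : ruleOk twoGens two 288 = true := by decide +kernel

theorem two_rule_289 : ruleOk twoGens two 289 = true := by decide +kernel

theorem two_rule_290 : ruleOk twoGens two 290 = true := by decide +kernel

theorem two_rule_291 : ruleOk twoGens two 291 = true := by decide +kernel

theorem two_rule_292 : ruleOk twoGens two 292 = true := by decide +kernel

theorem two_rule_293 : ruleOk twoGens two 293 = true := by decide +kernel

theorem two_rule_294 : ruleOk twoGens two 294 = true := by decide +kernel

theorem two_rule_295 : ruleOk twoGens two 295 = true := by decide +kernel

theorem two_rule_296 : ruleOk twoGens two 296 = true := by decide +kernel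

theorem two_rule_297 : ruleOk twoGens two 297 = true := by decide +kernel

theorem two_rule_298 : ruleOk twoGens two 298 = true := by decide +kernel

theorem two_rule_299 : ruleOk twoGens two 299 = true := by decide +kernel

theorem two_rule_300 : ruleOk twoGens two 300 = true := by decide +kernel

theorem two_rule_301 : ruleOk twoGens two 301 = true := by decide +kernel

theorem two_rule_302 : ruleOk twoGens two 302 = true := by decide +kernel

theorem two_rule_303 : ruleOk twoGens two 303 = true := by decide +kernel

theorem two_rule_304 : ruleOk twoGens two 304 = true := by decide +kernel

theorem two_rule_305 : ruleOk twoGens two 305 = true := by decide +kernel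

theorem two_rule_306 : ruleOk twoGens two 306 = true := by decide +kernel

theorem two_rule_307 : ruleOk twoGens two 307 = true := by decide +kernel

theorem two_rule_308 : ruleOk twoGens two 308 = true := by decide +kernel

theorem two_rule_309 : ruleOk twoGens two 309 = true := by decide +kernel

theorem two_rule_310 : ruleOk twoGens two 310 = true := by decide +kernel

theorem two_rule_311 : ruleOk twoGens two 311 = true := by decide +kernel

theorem two_rule_312 : ruleOk twoGens two 312 = true := by decide +kernel

theorem two_rule_313 : ruleOk twoGens two 313 = true := by decide +kernel

theorem two_rule_314 : ruleOk twoGens two 314 = true := by decide +kernel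

theorem two_rule_315 : ruleOk twoGens two 315 = true := by decide +kernel

theorem two_rule_316 : ruleOk twoGens two 316 = true := by decide +kernel

theorem two_rule_317 : ruleOk twoGens two 317 = true := by decide +kernel

end Cfsg.Lib.Chev.F4Cover
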