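import Cfsg.Agent.Lib.Chev.F4Cover.Rels
import Cfsg.Agent.Lib.Chev.F4Cover.DataTwo

/-! Kernel checks of the rules and conjugations of `two`, part 6. -/

set_option autoImplicit false
set_option maxRecDepth 100000
set_option linter.style.longLine false

namespace Cfsg.Lib.Chev.F4Cover

open Cfsg.Lib.Schur.PcStem Data

theorem two_rule_318 : ruleOk twoGens two 318 = true := by decide +kernel

theorem two_rule_319 : ruleOk twoGens two 319 = true := by decide +kernel

theorem two_rule_320 : ruleOk twoGens two 320 = true := by decide +kernel

theorem two_rule_321 : ruleOk twoGens two 321 = true := by decide +kernel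

theorem two_rule_322 : ruleOk twoGens two 322 = true := by decide +kernel

theorem two_rule_323 : ruleOk twoGens two 323 = true := by decide +kernel

theorem two_rule_324 : ruleOk twoGens two 324 = true := by decide +kernel

theorem two_fus_0_0 : fusOk twoGens twoConj two 0 0 = true := by decide +kernel

theorem two_fus_0_1 : fusOk twoGens twoConj two 0 1 = true := by decide +kernel

theorem two_fus_0_2 : fusOk twoGens twoConj two 0 2 = true := by decide +kernel

theorem two_fus_0_3 : fusOk twoGens twoConj two 0 3 = true := by decide +kernel

theorem two_fus_0_4 : fusOk twoGens twoConj two 0 4 = true := by decide +kernel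

theorem two_fus_0_5 : fusOk twoGens twoConj two 0 5 = true := by decide +kernel

theorem two_fus_0_6 : fusOk twoGens twoConj two 0 6 = true := by decide +kernel

theorem two_fus_0_7 : fusOk twoGens twoConj two 0 7 = true := by decide +kernel

theorem two_fus_0_8 : fusOk twoGens twoConj two 0 8 = true := by decide +kernel

theorem two_fus_0_9 : fusOk twoGens twoConj two 0 9 = true := by decide +kernel

theorem two_fus_0_10 : fusOk twoGens twoConj two 0 10 = true := by decide +kernel

theorem two_fus_0_11 : fusOk twoGens twoConj two 0 11 = true := by decide +kernel

theorem two_fus_0_12 : fusOk twoGens twoConj two 0 12 = true := by decide +kernel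

theorem two_fus_0_13 : fusOk twoGens twoConj two 0 13 = true := by decide +kernel

theorem two_fus_0_14 : fusOk twoGens twoConj two 0 14 = true := by decide +kernel

theorem two_fus_0_15 : fusOk twoGens twoConj two 0 15 = true := by decide +kernel

theorem two_fus_0_16 : fusOk twoGens twoConj two 0 16 = true := by decide +kernel

theorem two_fus_0_17 : fusOk twoGens twoConj two 0 17 = true := by decide +kernel

theorem two_fus_0_18 : fusOk twoGens twoConj two 0 18 = true := by decide +kernel

theorem two_fus_0_19 : fusOk twoGens twoConj two 0 19 = true := by decide +kernel

theorem two_fus_0_20 : fusOk twoGens twoConj two 0 20 = true := by decide +kernel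

theorem two_fus_0_21 : fusOk twoGens twoConj two 0 21 = true := by decide +kernel

theorem two_fus_0_22 : fusOk twoGens twoConj two 0 22 = true := by decide +kernel

theorem two_fus_0_23 : fusOk twoGens twoConj two 0 23 = true := by decide +kernel

theorem two_fus_1_0 : fusOk twoGens twoConj two 1 0 = true := by decide +kernel

theorem two_fus_1_1 : fusOk twoGens twoConj two 1 1 = true := by decide +kernel

theorem two_fus_1_2 : fusOk twoGens twoConj two 1 2 = true := by decide +kernel

theorem two_fus_1_3 : fusOk twoGens twoConj two 1 3 = true := by decide +kernel

theorem two_fus_1_4 : fusOk twoGens twoConj two 1 4 = true := by decide +kernel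

theorem two_fus_1_5 : fusOk twoGens twoConj two 1 5 = true := by decide +kernel

theorem two_fus_1_6 : fusOk twoGens twoConj two 1 6 = true := by decide +kernel

theorem two_fus_1_7 : fusOk twoGens twoConj two 1 7 = true := by decide +kernel

theorem two_fus_1_8 : fusOk twoGens twoConj two 1 8 = true := by decide +kernel

theorem two_fus_1_9 : fusOk twoGens twoConj two 1 9 = true := by decide +kernel

theorem two_fus_1_10 : fusOk twoGens twoConj two 1 10 = true := by decide +kernel

theorem two_fus_1_11 : fusOk twoGens twoConj two 1 11 = true := by decide +kernel

theorem two_fus_1_12 : fusOk twoGens twoConj two 1 12 = true := by decide +kernel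

theorem two_fus_1_13 : fusOk twoGens twoConj two 1 13 = true := by decide +kernel

theorem two_fus_1_14 : fusOk twoGens twoConj two 1 14 = true := by decide +kernel

theorem two_fus_1_15 : fusOk twoGens twoConj two 1 15 = true := by decide +kernel

theorem two_fus_1_16 : fusOk twoGens twoConj two 1 16 = true := by decide +kernel

theorem two_fus_1_17 : fusOk twoGens twoConj two 1 17 = true := by decide +kernel

theorem two_fus_1_18 : fusOk twoGens twoConj two 1 18 = true := by decide +kernel

theorem two_fus_1_19 : fusOk twoGens twoConj two 1 19 = true := by decide +kernel

theorem two_fus_1_20 : fusOk twoGens twoConj two 1 20 = true := by decide +kernel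

theorem two_fus_1_21 : fusOk twoGens twoConj two 1 21 = true := by decide +kernel

end Cfsg.Lib.Chev.F4Cover
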