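import Cfsg.Agent.Lib.Chev.F4Cover.Rels
import Cfsg.Agent.Lib.Chev.F4Cover.DataTwo

/-! Kernel checks of the rules and conjugations of `two`, part 7. -/

set_option autoImplicit false
set_option maxRecDepth 100000
set_option linter.style.longLine false

namespace Cfsg.Lib.Chev.F4Cover

open Cfsg.Lib.Schur.PcStem Data

theorem two_fus_1_22 : fusOk twoGens twoConj two 1 22 = true := by decide +kernel

theorem two_fus_1_23 : fusOk twoGens twoConj two 1 23 = true := by decide +kernel

theorem two_fus_2_0 : fusOk twoGens twoConj two 2 0 = true := by decide +kernel

theorem two_fus_2_1 : fusOk twoGens twoConj two 2 1 = true := by decide +kernel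

theorem two_fus_2_2 : fusOk twoGens twoConj two 2 2 = true := by decide +kernel

theorem two_fus_2_3 : fusOk twoGens twoConj two 2 3 = true := by decide +kernel

theorem two_fus_2_4 : fusOk twoGens twoConj two 2 4 = true := by decide +kernel

theorem two_fus_2_5 : fusOk twoGens twoConj two 2 5 = true := by decide +kernel

theorem two_fus_2_6 : fusOk twoGens twoConj two 2 6 = true := by decide +kernel

theorem two_fus_2_7 : fusOk twoGens twoConj two 2 7 = true := by decide +kernel

theorem two_fus_2_8 : fusOk twoGens twoConj two 2 8 = true := by decide +kernel

theorem two_fus_2_9 : fusOk twoGens twoConj two 2 9 = true := by decide +kernel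

theorem two_fus_2_10 : fusOk twoGens twoConj two 2 10 = true := by decide +kernel

theorem two_fus_2_11 : fusOk twoGens twoConj two 2 11 = true := by decide +kernel

theorem two_fus_2_12 : fusOk twoGens twoConj two 2 12 = true := by decide +kernel

theorem two_fus_2_13 : fusOk twoGens twoConj two 2 13 = true := by decide +kernel

theorem two_fus_2_14 : fusOk twoGens twoConj two 2 14 = true := by decide +kernel

theorem two_fus_2_15 : fusOk twoGens twoConj two 2 15 = true := by decide +kernel

theorem two_fus_2_16 : fusOk twoGens twoConj two 2 16 = true := by decide +kernel

theorem two_fus_2_17 : fusOk twoGens twoConj two 2 17 = true := by decide +kernel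

theorem two_fus_2_18 : fusOk twoGens twoConj two 2 18 = true := by decide +kernel

theorem two_fus_2_19 : fusOk twoGens twoConj two 2 19 = true := by decide +kernel

theorem two_fus_2_20 : fusOk twoGens twoConj two 2 20 = true := by decide +kernel

theorem two_fus_2_21 : fusOk twoGens twoConj two 2 21 = true := by decide +kernel

theorem two_fus_2_22 : fusOk twoGens twoConj two 2 22 = true := by decide +kernel

theorem two_fus_2_23 : fusOk twoGens twoConj two 2 23 = true := by decide +kernel

theorem two_fus_3_0 : fusOk twoGens twoConj two 3 0 = true := by decide +kernel

theorem two_fus_3_1 : fusOk twoGens twoConj two 3 1 = true := by decide +kernel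

theorem two_fus_3_2 : fusOk twoGens twoConj two 3 2 = true := by decide +kernel

theorem two_fus_3_3 : fusOk twoGens twoConj two 3 3 = true := by decide +kernel

theorem two_fus_3_4 : fusOk twoGens twoConj two 3 4 = true := by decide +kernel

theorem two_fus_3_5 : fusOk twoGens twoConj two 3 5 = true := by decide +kernel

theorem two_fus_3_6 : fusOk twoGens twoConj two 3 6 = true := by decide +kernel

theorem two_fus_3_7 : fusOk twoGens twoConj two 3 7 = true := by decide +kernel

theorem two_fus_3_8 : fusOk twoGens twoConj two 3 8 = true := by decide +kernel

theorem two_fus_3_9 : fusOk twoGens twoConj two 3 9 = true := by decide +kernel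

theorem two_fus_3_10 : fusOk twoGens twoConj two 3 10 = true := by decide +kernel

theorem two_fus_3_11 : fusOk twoGens twoConj two 3 11 = true := by decide +kernel

theorem two_fus_3_12 : fusOk twoGens twoConj two 3 12 = true := by decide +kernel

theorem two_fus_3_13 : fusOk twoGens twoConj two 3 13 = true := by decide +kernel

theorem two_fus_3_14 : fusOk twoGens twoConj two 3 14 = true := by decide +kernel

theorem two_fus_3_15 : fusOk twoGens twoConj two 3 15 = true := by decide +kernel

theorem two_fus_3_16 : fusOk twoGens twoConj two 3 16 = true := by decide +kernel

theorem two_fus_3_17 : fusOk twoGens twoConj two 3 17 = true := by decide +kernel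

theorem two_fus_3_18 : fusOk twoGens twoConj two 3 18 = true := by decide +kernel

theorem two_fus_3_19 : fusOk twoGens twoConj two 3 19 = true := by decide +kernel

theorem two_fus_3_20 : fusOk twoGens twoConj two 3 20 = true := by decide +kernel

theorem two_fus_3_21 : fusOk twoGens twoConj two 3 21 = true := by decide +kernel

theorem two_fus_3_22 : fusOk twoGens twoConj two 3 22 = true := by decide +kernel

theorem two_fus_3_23 : fusOk twoGens twoConj two 3 23 = true := by decide +kernel

end Cfsg.Lib.Chev.F4Cover
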