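import Cfsg.Agent.Lib.Chev.F4Cover.Letters

/-! Minus one is a product of three commutators of letters, and some letter is not a sign. -/

set_option autoImplicit false
set_option maxRecDepth 100000

namespace Cfsg.Lib.Chev.F4Cover

theorem sign_word : sameW [35, 1, 35, 1, 43, 0, 43, 0, 33, 3, 33, 3] [48] = true := by decide +kernel

theorem letter_moves : (beq (matP 24) one || beq (matP 24) (matP 48)) = false := by decide +kernel

end Cfsg.Lib.Chev.F4Cover
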