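import Cfsg.Agent.Lib.Chev.F4Cover.Hom
import Cfsg.Agent.Lib.Chev.F4Cover.Witness
import Cfsg.Agent.Lib.Chev.Simple
import Cfsg.Agent.Lib.Chev.F4Graph.Main
import Cfsg.Prelude.Def_KGroupFacts

/-!
# The double cover of the group over two elements in dimension 52
-/

set_option autoImplicit false
set_option maxRecDepth 4000

namespace Cfsg.Lib.Chev.F4Cover

open Cfsg.Lie Cfsg.Lib.Concrete Cfsg.Lib.Schur Cfsg.Lib.Schur.ModSplit Cfsg.Lib.Schur.PcStem
open scoped commutatorElement

/-- The simple group. -/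
abbrev GF := ↥(chevF4.group F2)

/-- The projective representation. -/
noncomputable def ψ : GF →* PG := exists_hom.choose

theorem ψ_xe {r : ℕ} (hr : r < 48) : ψ (xe r) = zq r := exists_hom.choose_spec r hr

theorem GF_perfect : commutator GF = ⊤ :=
  perfect_of_clean fullCertF4.comm.cert fullCertF4.comm cleanF4

theorem GF_simple : IsSimpleGroup GF :=
  (simple_of_perfect fullCertF4 linkedF4 (by decide) GF_perfect).1

theorem sgn_cases {x : GL52} (hx : x ∈ sgnSub) : x = 1 ∨ x = Z 48 := by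
  obtain ⟨k, rfl⟩ := Subgroup.mem_zpowers_iff.1 hx
  have h2 : Z 48 ^ (2 : ℤ) = 1 := by rw [zpow_two, Z_mul_self (by norm_num)]
  rcases Int.even_or_odd k with ⟨m, rfl⟩ | ⟨m, rfl⟩
  · left; rw [← two_mul, zpow_mul, h2, one_zpow]
  · right; rw [zpow_add, zpow_mul, h2, one_zpow, one_mul, zpow_one]

theorem zq_24_ne : zq 24 ≠ 1 := by
  intro h
  have h1 := sgn_cases ((QuotientGroup.eq_one_iff _).1 h)
  have h2 := letter_moves
  rw [Bool.or_eq_false_iff] at h2
  rcases h1 with e | e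
  · have : beq (matP 24) one = true := beq_iff.2 (by
      rw [← encM_Z (by norm_num : 24 < 49), e, Units.val_one, encM_one])
    rw [h2.1] at this; exact absurd this (by decide)
  · have : beq (matP 24) (matP 48) = true := beq_iff.2 (by
      rw [← encM_Z (by norm_num : 24 < 49), ← encM_Z (by norm_num : 48 < 49), e])
    rw [h2.2] at this; exact absurd this (by decide)

theorem ψ_inj : Function.Injective ψ := by
  haveI := GF_simple
  rcases ψ.normal_ker.eq_bot_or_eq_top with h | h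
  · exact (MonoidHom.ker_eq_bot_iff _).1 h
  · refine absurd ?_ zq_24_ne
    rw [← ψ_xe (by norm_num : 24 < 48)]
    exact MonoidHom.mem_ker.1 (h ▸ Subgroup.mem_top _)

/-- The double cover. -/
noncomputable def Gam : Subgroup GL52 := ψ.range.comap prj

theorem Z_mem : ∀ k < 49, Z k ∈ Gam := by
  intro k hk
  rcases Nat.lt_succ_iff_lt_or_eq.1 hk with h | rfl
  · exact ⟨xe k, ψ_xe h⟩
  · show prj (Z 48) ∈ ψ.range
    rw [prj_sign]; exact Subgroup.one_mem _

/-- The covering map. -/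
noncomputable def cov : ↥Gam →* GF :=
  (MonoidHom.ofInjective ψ_inj).symm.toMonoidHom.comp
    ((prj.comp Gam.subtype).codRestrict ψ.range fun x => x.2)

theorem ψ_cov (x : ↥Gam) : ψ (cov x) = prj (x : GL52) :=
  congrArg Subtype.val ((MonoidHom.ofInjective ψ_inj).apply_symm_apply ⟨prj (x : GL52), x.2⟩)

theorem cov_surjective : Function.Surjective cov := by
  intro g
  obtain ⟨x, hx⟩ := QuotientGroup.mk'_surjective sgnSub (ψ g)
  exact ⟨⟨x, ⟨g, hx.symm⟩⟩, ψ_inj ((ψ_cov _).trans hx)⟩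

theorem cov_Z {k : ℕ} (hk : k < 48) :
    cov ⟨Z k, Z_mem k (Nat.lt_succ_of_lt hk)⟩ = xe k :=
  ψ_inj ((ψ_cov _).trans (ψ_xe hk).symm)

theorem cov_eq_one_iff (x : ↥Gam) : cov x = 1 ↔ (x : GL52) ∈ sgnSub := by
  rw [← QuotientGroup.eq_one_iff, ← ψ_inj.eq_iff, ψ_cov, map_one]
  exact Iff.rfl

/-- The central involution of the cover. -/
noncomputable def sgnG : ↥Gam := ⟨Z 48, Z_mem 48 (by norm_num)⟩

theorem ker_eq : cov.ker = Subgroup.zpowers sgnG := by
  ext x
  rw [MonoidHom.mem_ker, cov_eq_one_iff]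
  constructor
  · intro h
    rcases sgn_cases h with e | e
    · rw [show x = 1 from Subtype.ext e]; exact Subgroup.one_mem _
    · rw [show x = sgnG from Subtype.ext e]; exact Subgroup.mem_zpowers _
  · intro h
    obtain ⟨k, rfl⟩ := Subgroup.mem_zpowers_iff.1 h
    exact Subgroup.mem_zpowers_iff.2 ⟨k, by rw [Subgroup.coe_zpow]; rfl⟩

theorem orderOf_sgn : orderOf sgnG = 2 := by
  haveI : Fact (Nat.Prime 2) := ⟨Nat.prime_two⟩
  refine orderOf_eq_prime (Subtype.ext ?_) fun h => Z_sign_ne (congrArg Subtype.val h)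
  rw [Subgroup.coe_pow, pow_two]
  exact Z_mul_self (by norm_num)

theorem card_ker : Nat.card cov.ker = 2 := by
  rw [ker_eq, Nat.card_zpowers, orderOf_sgn]

theorem ker_le_center : cov.ker ≤ Subgroup.center ↥Gam := fun x hx => by
  refine Subgroup.mem_center_iff.2 fun y => Subtype.ext ?_
  exact Subgroup.mem_center_iff.1 (sgnSub_le_center ((cov_eq_one_iff x).1 hx)) (y : GL52)

theorem ker_le_commutator : cov.ker ≤ commutator ↥Gam := by
  rw [ker_eq, Subgroup.zpowers_le]
  let e : ∀ (k : ℕ) (_ : k < 49), ↥Gam := fun k hk => ⟨Z k, Z_mem k hk⟩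
  have h : sgnG = ⁅e 35 (by norm_num), e 1 (by norm_num)⁆ * ⁅e 43 (by norm_num), e 0 (by norm_num)⁆ *
      ⁅e 33 (by norm_num), e 3 (by norm_num)⁆ := by
    refine Subtype.ext ?_
    have h1 := eq_of_sameW sign_word
    simp only [commutatorElement_def, Subgroup.coe_mul, Subgroup.coe_inv]
    show Z 48 = Z 35 * Z 1 * (Z 35)⁻¹ * (Z 1)⁻¹ * (Z 43 * Z 0 * (Z 43)⁻¹ * (Z 0)⁻¹) *
      (Z 33 * Z 3 * (Z 33)⁻¹ * (Z 3)⁻¹)
    rw [Z_inv (show 35 < 49 by norm_num), Z_inv (show 1 < 49 by norm_num), Z_inv (show 43 < 49 by norm_num),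
      Z_inv (show 0 < 49 by norm_num), Z_inv (show 33 < 49 by norm_num), Z_inv (show 3 < 49 by norm_num)]
    simpa [wv_cons, wv_nil, mul_assoc] using h1.symm
  rw [h, commutator_def]
  exact mul_mem (mul_mem (Subgroup.commutator_mem_commutator (Subgroup.mem_top _) (Subgroup.mem_top _))
    (Subgroup.commutator_mem_commutator (Subgroup.mem_top _) (Subgroup.mem_top _)))
    (Subgroup.commutator_mem_commutator (Subgroup.mem_top _) (Subgroup.mem_top _))

theorem isStem : IsStemExtension cov := ⟨cov_surjective, ker_le_center, ker_le_commutator⟩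

theorem card_GF : Nat.card GF = 2 ^ 24 * (3 * 63 * 255 * 4095) := by
  rw [F4Graph.group_order, nroots_eq, ZMod.card]
  norm_num

theorem card_Gam : Nat.card ↥Gam = 2 ^ 25 * (3 ^ 6 * 5 ^ 2 * 7 ^ 2 * (13 * 17)) := by
  have h := Subgroup.card_mul_index cov.ker
  rw [Subgroup.index_ker, MonoidHom.range_eq_top.2 cov_surjective, Subgroup.card_top, card_ker, card_GF] at h
  rw [← h]
  norm_num

end Cfsg.Lib.Chev.F4Cover
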