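import Cfsg.Agent.Lib.Chev.F4Cover.Gens0
import Cfsg.Agent.Lib.Chev.F4Cover.Gens1
import Cfsg.Agent.Lib.Chev.F4Cover.Gens2
import Cfsg.Agent.Lib.Chev.F4Cover.Gens3

/-! The packed matrices of the 48 lifts and of the central involution (letter 48). -/

set_option autoImplicit false
set_option maxRecDepth 100000
set_option linter.style.longLine false

namespace Cfsg.Lib.Chev.F4Cover.Data

/-- The packed matrices, by letter. -/
def mats : List (List ℕ) :=
  [m0, m1, m2, m3, m4, m5, m6, m7, m8, m9,
   m10, m11, m12, m13, m14, m15, m16, m17, m18, m19,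
   m20, m21, m22, m23, m24, m25, m26, m27, m28, m29,
   m30, m31, m32, m33, m34, m35, m36, m37, m38, m39,
   m40, m41, m42, m43, m44, m45, m46, m47, m48]

end Cfsg.Lib.Chev.F4Cover.Data
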