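import Cfsg.Agent.Lib.Chev.F4Cover.Relators

/-!
# The group over two elements maps to the projective group in dimension 52
-/

set_option autoImplicit false
set_option maxRecDepth 4000

namespace Cfsg.Lib.Chev.F4Cover

open Cfsg.Lie Cfsg.Lib.Concrete Cfsg.Lib.Schur Cfsg.Lib.Schur.ModSplit Cfsg.Lib.Schur.PcStem

/-- A root element as an element of the group. -/
noncomputable def xe (r : ℕ) : ↥(chevF4.group F2) := ⟨xg cF r (1 : F2), xg_mem_group cF r 1⟩

theorem neg_inv_one : (-(1 : F2)⁻¹) = 1 := by rw [inv_one]; decide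

theorem conj_el {i q r : ℕ} (hi : i < 4) (hq : q < 48) (hr : tblF4.refl' i q = r) :
    (xe (tblF4.simp' i) * xe (tblF4.neg (tblF4.simp' i)) * xe (tblF4.simp' i)) * xe q *
      (xe (tblF4.simp' i) * xe (tblF4.neg (tblF4.simp' i)) * xe (tblF4.simp' i))⁻¹ = xe r := by
  have hi' : i < chevF4.rank := hi
  have hq' : q < chevF4.nroots := nroots_eq.symm ▸ hq
  have h : ((tblF4.eta' i q : ℤ) : F2) = 1 :=
    (zmod2_cases _).resolve_left (eta_ne_zero (F := F2) tblF4 i q)
  have e := nu_conj_xg cF hi' hq' (1 : F2)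
  rw [nu, ng, cF.spec.shape.neg_eq _ (cF.spec.simp_lt i hi'), neg_inv_one, mul_one, h, hr] at e
  exact Subtype.ext e

/-- Each step of a chain starts from a root already reached. -/
def chainOk : List ℕ → List (ℕ × ℕ × ℕ × ℕ) → Bool
  | _, [] => true
  | D, c :: L => Nat.blt c.2.1 4 && Nat.blt c.2.2.1 48 && D.any (fun d => Nat.beq d c.2.2.1) && chainOk (c.1 :: D) L

/-- The fundamental roots and their negatives. -/
def baseRoots : List ℕ :=
  (List.range 4).map tblF4.simp' ++ (List.range 4).map (fun i => tblF4.neg (tblF4.simp' i))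

theorem chain_ok : chainOk baseRoots conjData = true := by decide +kernel

/-- The map to the projective group, with the images of the root elements. -/
theorem exists_hom : ∃ ψ : ↥(chevF4.group F2) →* PG, ∀ r (_ : r < 48),
    ψ (xe r) = zq r := by
  have hπ : ∀ r < chevF4.nroots, ∀ t, stHom (F := F2) cF fullCertF4.comm (chevF4.stGen F2 r t) = xg cF r t :=
    fun r hr t => stHom_gen cF fullCertF4.comm hr t
  have hinj : Function.Injective (stHom (F := F2) cF fullCertF4.comm) :=
    (injective_iff_map_eq_one _).2 fun g hg =>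
      st_hSub_inj cF fullCertF4 chkSelf_F4 (M := [[2, 3, 2, 1], [3, 6, 4, 2], [4, 8, 6, 3], [2, 4, 3, 2]])
        (by decide +kernel) _ hπ (st_ker_le cF fullCertF4 chkSelf_F4 _ hπ hg).1 hg
  have hran := stHom_range cF fullCertF4 _ hπ
  let θ : chevF4.SteinbergGroup F2 ≃* ↥(chevF4.group F2) :=
    (MonoidHom.ofInjective hinj).trans (MulEquiv.subgroupCongr hran)
  obtain ⟨e, he⟩ := curtis_tits (F := F2) cF ctCertF4
  let ψ : ↥(chevF4.group F2) →* PG :=
    ((PresentedGroup.toGroup img_relators).comp e.symm.toMonoidHom).comp θ.symm.toMonoidHom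
  have hpair : ∀ r, IsPairRoot chevF4 r → ψ (xe r) = zq r := by
    intro r hp
    have hr : r < chevF4.nroots := by obtain ⟨i, -, j, -, hJ⟩ := hp; exact hJ.1
    have h1 : θ (chevF4.stGen F2 r 1) = (xe r) := Subtype.ext (hπ r hr 1)
    show PresentedGroup.toGroup img_relators (e.symm (θ.symm _)) = _
    rw [← h1, θ.symm_apply_apply, ← he r 1 hp, e.symm_apply_apply, ctGen, ChevalleyDatum.stX, dif_pos hr]
    refine (PresentedGroup.toGroup.of _).trans ?_
    rw [img, if_pos ⟨hp, one_ne_zero⟩]
  have key : ∀ e ∈ conjData, ψ (xe e.2.2.1) = zq e.2.2.1 →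
      e.2.1 < 4 → e.2.2.1 < 48 → ψ (xe e.1) = zq e.1 := by
    intro c hc ih hi hq
    have h := conj_all c hc
    simp only [conjOk, Bool.and_eq_true, Nat.beq_eq] at h
    obtain ⟨hrefl, hs⟩ := h
    have h3 := congrArg prj (eq_of_sameW hs)
    rw [prj_wv_sgn, prj_wv] at h3
    have hp := isPairRoot_simple cF (show c.2.1 < chevF4.rank from hi)
    have hpn := isPairRoot_neg cF hp
    have hconj := conj_el hi hq hrefl
    have hp' : tblF4.simp' c.2.1 < 49 := Nat.lt_succ_of_lt (nroots_eq ▸ cF.spec.simp_lt _ hi)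
    have hn' : tblF4.neg (tblF4.simp' c.2.1) < 49 :=
      Nat.lt_succ_of_lt (nroots_eq ▸ cF.spec.neg_lt _ (cF.spec.simp_lt _ hi))
    rw [← hconj, map_mul, map_mul, map_inv, map_mul, map_mul, hpair _ hp, hpair _ hpn, ih]
    simpa [nWord, mul_assoc, zq_inv hp', zq_inv hn'] using h3
  refine ⟨ψ, fun r hr => ?_⟩
  have hall : ∀ (L : List (ℕ × ℕ × ℕ × ℕ)) (D : List ℕ), (∀ c ∈ L, c ∈ conjData) →
      (∀ r ∈ D, ψ (xe r) = zq r) →
      chainOk D L = true → ∀ r ∈ L.map (fun c => c.1) ++ D, ψ (xe r) = zq r := by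
    intro L
    induction L with
    | nil => intro D _ hD _ r hr; exact hD r (by simpa using hr)
    | cons c L ih =>
      intro D hL hD hch r hr
      simp only [chainOk, Bool.and_eq_true, Nat.blt_eq, List.any_eq_true, Nat.beq_eq] at hch
      obtain ⟨⟨⟨hi, hq⟩, d, hd, hdq⟩, hch⟩ := hch
      have hc := key c (hL c (List.mem_cons_self ..)) (by rw [← hdq]; exact hD d hd) hi hq
      refine ih (c.1 :: D) (fun a ha => hL a (List.mem_cons_of_mem _ ha)) (fun a ha => ?_) hch r ?_
      · rcases List.mem_cons.1 ha with rfl | ha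
        exacts [hc, hD a ha]
      · rw [List.map_cons, List.cons_append] at hr
        rcases List.mem_cons.1 hr with rfl | hr
        · exact List.mem_append_right _ (List.mem_cons_self ..)
        · rcases List.mem_append.1 hr with hr | hr
          · exact List.mem_append_left _ hr
          · exact List.mem_append_right _ (List.mem_cons_of_mem _ hr)
  have hbase : ∀ r ∈ baseRoots, ψ (xe r) = zq r := by
    intro r hr
    rcases List.mem_append.1 hr with h | h
    · obtain ⟨i, hi, rfl⟩ := List.mem_map.1 h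
      exact hpair _ (isPairRoot_simple cF (List.mem_range.1 hi))
    · obtain ⟨i, hi, rfl⟩ := List.mem_map.1 h
      exact hpair _ (isPairRoot_neg cF (isPairRoot_simple cF (List.mem_range.1 hi)))
  have hmem : (List.range 48).all (fun r => (conjData.map (fun c => c.1) ++ baseRoots).any (Nat.beq r)) = true := by
    decide +kernel
  obtain ⟨a, ha, hra⟩ := List.any_eq_true.1 (List.all_eq_true.1 hmem r (List.mem_range.2 hr))
  rw [Nat.beq_eq] at hra
  subst hra
  exact hall conjData baseRoots (fun c hc => hc) hbase chain_ok r ha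

end Cfsg.Lib.Chev.F4Cover
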