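import Cfsg.Agent.Lib.Chev.F4Cover.Rels

/-!
# Lower bounds for orders of subgroups from vectors fixed by layers
-/

set_option autoImplicit false

namespace Cfsg.Lib.Chev.F4Cover

open Cfsg.Lib.CosetEnum (force force_eq)
open Cfsg.Lib.Concrete Cfsg.Lib.Schur Cfsg.Lib.Schur.ModSplit Cfsg.Lib.Schur.PcStem
open scoped Matrix

/-- A packed row times a word. -/
noncomputable def rowP (v : ℕ) (w : List ℕ) : ℕ :=
  List.rec (motive := fun _ => ℕ → ℕ) (fun v => v)
    (fun k _ ih v => force (red (combK (matP k) v)) ih) w v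

/-- The packed form of a vector. -/
def encV (V : Fin 52 → ZMod 11) : ℕ := pack fun j => (V j).val

theorem encV_injective : Function.Injective encV := fun V V' h => funext fun j =>
  ZMod.val_injective 11 (congrFun (pack_injective (fun i => (ZMod.val_lt (V i)).trans (by norm_num))
    (fun i => (ZMod.val_lt (V' i)).trans (by norm_num)) h) j)

attribute [local irreducible] combAux pack red qmask in
theorem encV_vecMul (V : Fin 52 → ZMod 11) (B : M52) : encV (V ᵥ* B) = red (combK (encM B) (encV V)) := by
  have hlt : ∀ x : ZMod 11, x.val < 11 := ZMod.val_lt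
  rw [combK_eq]
  unfold encV encM
  have hb : ∀ j : Fin 52, (∑ k, (V k).val * (B k j).val) < 5300 := fun j => by
    have h := Finset.sum_le_card_nsmul Finset.univ (fun k : Fin 52 => (V k).val * (B k j).val) 100
      fun k _ => Nat.mul_le_mul (Nat.le_of_lt_succ (hlt (V k))) (Nat.le_of_lt_succ (hlt (B k j)))
    rw [Finset.card_univ, Fintype.card_fin, smul_eq_mul] at h
    omega
  rw [combAux_ofFn _ _ (fun k => (hlt _).trans (by norm_num)), sum_mul_pack, red_pack _ hb]
  refine congrArg pack (funext fun j => ?_)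
  rw [← ZMod.val_natCast]
  refine congrArg ZMod.val ?_
  simp only [Nat.cast_sum, Nat.cast_mul, ZMod.natCast_zmod_val, Matrix.vecMul, dotProduct]

theorem exists_encV {v : ℕ} (h : canonRow v = true) : ∃ V, encV V = v := by
  obtain ⟨w, hw, hlt⟩ := canonRow_spec h
  refine ⟨fun j => (w j : ZMod 11), ?_⟩
  rw [hw]
  exact congrArg pack (funext fun j => by rw [ZMod.val_natCast, Nat.mod_eq_of_lt (hlt j)])

theorem rowP_spec : ∀ {w : List ℕ}, inB w = true → ∀ V : Fin 52 → ZMod 11,
    rowP (encV V) w = encV (V ᵥ* ((wv Z w : GL52) : M52))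
  | [], _, V => by
    rw [wv_nil, Units.val_one, Matrix.vecMul_one]
    rfl
  | a :: w, h, V => by
    simp only [inB, List.all_cons, Bool.and_eq_true, Nat.blt_eq] at h
    show force (red (combK (matP a) (encV V))) (fun v => rowP v w) = _
    rw [force_eq, ← encM_Z h.1, ← encV_vecMul, rowP_spec (w := w) (by simpa [inB] using h.2), wv_cons,
      Units.val_mul, Matrix.vecMul_vecMul]

/-- Generators from `i + 1` on fix the vector and the proper powers of the `i`-th one move it. -/
noncomputable def stepOk (gw : List (List ℕ)) (p n i v : ℕ) : Bool :=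
  canonRow v && Nat.blt i n &&
  ((List.range' (i + 1) (n - (i + 1))).all fun a => inB (gw.getD a []) && Nat.beq (rowP v (gw.getD a [])) v) &&
  inB (gw.getD i []) &&
  (List.range' 1 (p - 1)).all fun k => !(Nat.beq (rowP v (PcData.expand gw (List.replicate k i))) v)

/-- The signatures of the listed words increase strictly. -/
noncomputable def incrOk (gw : List (List ℕ)) (v : ℕ) : List (List ℕ) → Bool
  | [] => true
  | [w] => inB (PcData.expand gw w)
  | w :: w' :: l => inB (PcData.expand gw w) &&
      (Nat.blt (rowP v (PcData.expand gw w)) (rowP v (PcData.expand gw w')) && incrOk gw v (w' :: l))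

/-- The listed words use the generators from `i` on and have increasing signatures. -/
noncomputable def baseOk (gw : List (List ℕ)) (n i v : ℕ) (ws : List (List ℕ)) : Bool :=
  canonRow v && (ws.all fun w => w.all fun a => Nat.ble i a && Nat.blt a n) && incrOk gw v ws

variable {H : Subgroup GL52} (hH : ∀ k < 49, Z k ∈ H)

/-- The subgroup of the generators from `i` on. -/
noncomputable def lay (H : Subgroup GL52) (gw : List (List ℕ)) (n i : ℕ) : Subgroup ↥H :=
  Subgroup.closure {x | ∃ a, i ≤ a ∧ a < n ∧ x = elH H (gw.getD a [])}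

theorem inB_expand {gw : List (List ℕ)} {i : ℕ} (h : inB (gw.getD i []) = true) :
    ∀ k, inB (PcData.expand gw (List.replicate k i)) = true
  | 0 => rfl
  | k + 1 => by
    rw [List.replicate_succ, PcData.expand, List.flatMap_cons, inB, List.all_append, Bool.and_eq_true]
    exact ⟨h, inB_expand h k⟩

theorem lay_zero {d : PcData} {gw : List (List ℕ)} (H : Subgroup GL52) :
    lay H gw d.n 0 = PcStem.sub d (fun i => elH H (gw.getD i [])) :=
  congrArg Subgroup.closure (Set.ext fun x => ⟨fun ⟨a, _, h, e⟩ => ⟨a, h, e⟩, fun ⟨a, h, e⟩ => ⟨a, Nat.zero_le _, h, e⟩⟩)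

include hH in
theorem card_lay_base {gw : List (List ℕ)} {n i v : ℕ} {ws : List (List ℕ)}
    (h : baseOk gw n i v ws = true) : ws.length ≤ Nat.card (lay H gw n i) := by
  haveI : Finite GL52 := inferInstance
  simp only [baseOk, Bool.and_eq_true, List.all_eq_true, Nat.ble_eq, Nat.blt_eq] at h
  obtain ⟨⟨hv, hws⟩, hincr⟩ := h
  obtain ⟨V, rfl⟩ := exists_encV hv
  let sg : List ℕ → ℕ := fun w => rowP (encV V) (PcData.expand gw w)
  have key : ∀ ws : List (List ℕ), incrOk gw (encV V) ws = true →
      (∀ w ∈ ws, inB (PcData.expand gw w) = true) ∧ List.IsChain (fun a b => sg a < sg b) ws := by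
    intro ws
    induction ws with
    | nil => intro _; exact ⟨fun w hw => absurd hw List.not_mem_nil, List.IsChain.nil⟩
    | cons w l ih =>
      cases l with
      | nil =>
        intro h
        exact ⟨fun x hx => by rw [List.mem_singleton.1 hx]; exact h, List.IsChain.singleton w⟩
      | cons w' l =>
        intro h
        simp only [incrOk, Bool.and_eq_true, Nat.blt_eq] at h
        obtain ⟨h1, h2⟩ := ih h.2.2
        refine ⟨fun x hx => ?_, List.IsChain.cons_cons h.2.1 h2⟩
        rcases List.mem_cons.1 hx with rfl | hx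
        exacts [h.1, h1 x hx]
  obtain ⟨hin, hchain⟩ := key ws hincr
  have hsorted : (ws.map sg).Pairwise (· < ·) := by
    rw [List.pairwise_map]
    haveI : IsTrans (List ℕ) (fun a b => sg a < sg b) := ⟨fun _ _ _ => Nat.lt_trans⟩
    exact List.isChain_iff_pairwise.1 hchain
  have hnd : (ws.map sg).Nodup := hsorted.imp ne_of_lt
  let f : Fin ws.length → lay H gw n i := fun k =>
    ⟨wv (fun a => elH H (gw.getD a [])) ws[k], list_prod_mem fun x hx => by
      obtain ⟨a, ha, rfl⟩ := List.mem_map.1 hx
      exact Subgroup.subset_closure ⟨a, (hws _ (List.getElem_mem k.2) a ha).1, (hws _ (List.getElem_mem k.2) a ha).2, rfl⟩⟩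
  have hf : Function.Injective f := by
    intro k k' e
    have e1 := congrArg (fun x : lay H gw n i => ((x : ↥H) : GL52)) e
    simp only [f, coe_wv_elH hH] at e1
    have e2 : sg ws[k] = sg ws[k'] := by
      show rowP _ _ = rowP _ _
      simp only [Fin.getElem_fin] at e1 ⊢
      rw [rowP_spec (hin _ (List.getElem_mem k.2)), rowP_spec (hin _ (List.getElem_mem k'.2)), e1]
    have e3 : (ws.map sg)[(k : ℕ)]'(by simp) = (ws.map sg)[(k' : ℕ)]'(by simp) := by
      rw [List.getElem_map, List.getElem_map]; exact e2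
    exact Fin.ext ((List.Nodup.getElem_inj_iff hnd).1 e3)
  have h := Nat.card_le_card_of_injective f hf
  rwa [Nat.card_fin] at h

include hH in
theorem card_lay_step {gw : List (List ℕ)} {p n i v : ℕ} (h : stepOk gw p n i v = true) :
    p * Nat.card (lay H gw n (i + 1)) ≤ Nat.card (lay H gw n i) := by
  haveI : Finite GL52 := inferInstance
  simp only [stepOk, Bool.and_eq_true, List.all_eq_true, List.mem_range'_1, Nat.blt_eq, Nat.beq_eq,
    Bool.not_eq_true'] at h
  obtain ⟨⟨⟨⟨hv, hin'⟩, hfix⟩, hbi⟩, hmove⟩ := h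
  obtain ⟨V, rfl⟩ := exists_encV hv
  let s : ↥H := elH H (gw.getD i [])
  have hfixed : ∀ x ∈ lay H gw n (i + 1), V ᵥ* (((x : ↥H) : GL52) : M52) = V := by
    intro x hx
    induction hx using Subgroup.closure_induction with
    | mem x hx =>
      obtain ⟨a, ha1, ha2, rfl⟩ := hx
      obtain ⟨hb, he⟩ := hfix a ⟨ha1, by omega⟩
      rw [coe_elH hH]
      exact encV_injective ((rowP_spec hb V).symm.trans he)
    | one => rw [Subgroup.coe_one, Units.val_one, Matrix.vecMul_one]
    | mul a b _ _ ha hb => rw [Subgroup.coe_mul, Units.val_mul, ← Matrix.vecMul_vecMul, ha, hb]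
    | inv a _ ha =>
      conv_lhs => rw [← ha]
      rw [Matrix.vecMul_vecMul, ← Units.val_mul, Subgroup.coe_inv, mul_inv_cancel, Units.val_one,
        Matrix.vecMul_one]
  have hpow : ∀ k, ((s ^ k : ↥H) : GL52) = wv Z (PcData.expand gw (List.replicate k i)) := fun k => by
    rw [← coe_wv_elH hH, wv, List.map_replicate, List.prod_replicate]
  have hk : ∀ k, 1 ≤ k → k < p → V ᵥ* (((s ^ k : ↥H) : GL52) : M52) ≠ V := by
    intro k h1 h2 e
    have h3 : Nat.beq (rowP (encV V) (PcData.expand gw (List.replicate k i))) (encV V) = false :=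
      hmove k ⟨h1, by omega⟩
    rw [rowP_spec (inB_expand hbi k), ← hpow, e] at h3
    rw [← Bool.not_eq_true] at h3
    exact h3 (Nat.beq_refl _)
  have hs : s ∈ lay H gw n i := Subgroup.subset_closure ⟨i, le_rfl, hin', rfl⟩
  have hle : lay H gw n (i + 1) ≤ lay H gw n i :=
    Subgroup.closure_mono fun x ⟨a, h1, h2, e⟩ => ⟨a, Nat.le_of_succ_le h1, h2, e⟩
  let f : Fin p × lay H gw n (i + 1) → lay H gw n i := fun z =>
    ⟨z.2 * s ^ (z.1 : ℕ), Subgroup.mul_mem _ (hle z.2.2) (Subgroup.pow_mem _ hs _)⟩
  have hf : Function.Injective f := by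
    rintro ⟨k, x⟩ ⟨k', x'⟩ e
    simp only [f, Subtype.mk.injEq] at e
    have e1 := e
    suffices hkk : k = k' by
      subst hkk
      exact Prod.ext rfl (Subtype.ext (mul_right_cancel e1))
    by_contra hne
    have key : ∀ (a b : Fin p) (y y' : lay H gw n (i + 1)), (a : ℕ) < b →
        (y : ↥H) * s ^ (a : ℕ) = y' * s ^ (b : ℕ) → False := by
      intro a b y y' hab e2
      obtain ⟨d, hd⟩ := Nat.exists_eq_add_of_le hab.le
      have e3 : (y : ↥H) = y' * s ^ d := by
        rw [hd, add_comm (a : ℕ) d, pow_add, ← mul_assoc] at e2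
        exact mul_right_cancel e2
      have e4 := hfixed y y.2
      rw [e3, Subgroup.coe_mul, Units.val_mul, ← Matrix.vecMul_vecMul, hfixed y' y'.2] at e4
      exact hk d (by omega) (by omega) e4
    rcases Nat.lt_or_gt_of_ne (fun e2 => hne (Fin.ext e2)) with hlt | hlt
    · exact key k k' x x' hlt e1
    · exact key k' k x' x hlt e1.symm
  have h := Nat.card_le_card_of_injective f hf
  rwa [Nat.card_prod, Nat.card_fin] at h

end Cfsg.Lib.Chev.F4Cover
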