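import Cfsg.Agent.Lib.Chev.F4Cover.Pack
import Cfsg.Agent.Lib.Chev.F4Cover.Gens
import Cfsg.Agent.Lib.Concrete.StemCert
import Cfsg.Agent.Lib.Schur.PcStem

/-!
# The letters of the double cover as involutions in the general linear group
-/

set_option autoImplicit false
set_option maxRecDepth 100000

namespace Cfsg.Lib.Chev.F4Cover

open Cfsg.Lib.Concrete Cfsg.Lib.Schur Cfsg.Lib.Schur.ModSplit Cfsg.Lib.Schur.PcStem

/-- The packed matrix of a letter. -/
def matP (k : ℕ) : List ℕ := Data.mats.getD k one

/-- A letter is an involution in canonical form. -/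
noncomputable def matOk (k : ℕ) : Bool := canon (matP k) && beq (mul (matP k) (matP k)) one

/-- Consecutive letters are involutions in canonical form. -/
noncomputable def matOkFrom (lo n : ℕ) : Bool := (List.range' lo n).all matOk

theorem mats_0 : matOkFrom 0 7 = true := by decide +kernel

theorem mats_1 : matOkFrom 7 7 = true := by decide +kernel

theorem mats_2 : matOkFrom 14 7 = true := by decide +kernel

theorem mats_3 : matOkFrom 21 7 = true := by decide +kernel

theorem mats_4 : matOkFrom 28 7 = true := by decide +kernel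

theorem mats_5 : matOkFrom 35 7 = true := by decide +kernel

theorem mats_6 : matOkFrom 42 7 = true := by decide +kernel

theorem mats_ok {k : ℕ} (hk : k < 49) : matOk k = true := by
  have h : ∀ lo, matOkFrom lo 7 = true → lo ≤ k → k < lo + 7 → matOk k = true := fun lo h h1 h2 =>
    List.all_eq_true.1 h k (List.mem_range'_1.2 ⟨h1, h2⟩)
  rcases (by omega : k < 7 ∨ (7 ≤ k ∧ k < 14) ∨ (14 ≤ k ∧ k < 21) ∨ (21 ≤ k ∧ k < 28) ∨ (28 ≤ k ∧ k < 35) ∨
    (35 ≤ k ∧ k < 42) ∨ (42 ≤ k ∧ k < 49)) with e | e | e | e | e | e | e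
  · exact h 0 mats_0 (Nat.zero_le _) (by omega)
  · exact h 7 mats_1 e.1 e.2
  · exact h 14 mats_2 e.1 e.2
  · exact h 21 mats_3 e.1 e.2
  · exact h 28 mats_4 e.1 e.2
  · exact h 35 mats_5 e.1 e.2
  · exact h 42 mats_6 e.1 e.2

theorem mats_spec {k : ℕ} (hk : k < 49) : ∃ g : GL52, encM (g : M52) = matP k ∧ g * g = 1 := by
  have h := mats_ok hk
  simp only [matOk, Bool.and_eq_true, beq_iff] at h
  obtain ⟨h1, h2⟩ := h
  obtain ⟨A, hA⟩ := exists_encM h1
  have hAA : A * A = 1 := encM_injective (by rw [encM_mul, hA, h2, encM_one])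
  exact ⟨⟨A, A, hAA, hAA⟩, hA, Units.ext hAA⟩

/-- The element of a letter. -/
noncomputable def Z (k : ℕ) : GL52 := if hk : k < 49 then (mats_spec hk).choose else 1

theorem encM_Z {k : ℕ} (hk : k < 49) : encM ((Z k : GL52) : M52) = matP k := by
  rw [Z, dif_pos hk]
  exact (mats_spec hk).choose_spec.1

theorem Z_mul_self {k : ℕ} (hk : k < 49) : Z k * Z k = 1 := by
  rw [Z, dif_pos hk]
  exact (mats_spec hk).choose_spec.2

theorem Z_inv {k : ℕ} (hk : k < 49) : (Z k)⁻¹ = Z k := inv_eq_of_mul_eq_one_right (Z_mul_self hk)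

/-- The packed matrix of a word. -/
noncomputable def wordP (w : List ℕ) : List ℕ :=
  List.rec (motive := fun _ => List ℕ) one
    (fun k w ih => List.rec (motive := fun _ => List ℕ) (matP k) (fun _ _ _ => mul (matP k) ih) w) w

/-- A word uses valid letters only. -/
def inB (w : List ℕ) : Bool := w.all fun a => Nat.blt a 49

theorem encM_wv : ∀ {w : List ℕ}, inB w = true → encM ((wv Z w : GL52) : M52) = wordP w
  | [], _ => by
    rw [wv_nil, Units.val_one, encM_one]
    rfl
  | [a], h => by
    simp only [inB, List.all_cons, Bool.and_eq_true, Nat.blt_eq] at h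
    rw [wv_cons, wv_nil, mul_one, encM_Z h.1]
    rfl
  | a :: b :: w, h => by
    simp only [inB, List.all_cons, Bool.and_eq_true, Nat.blt_eq] at h
    rw [wv_cons, Units.val_mul, encM_mul, encM_Z h.1,
      encM_wv (w := b :: w) (by simpa [inB] using h.2)]
    rfl

/-- Two words have equal values. -/
noncomputable def sameW (w w' : List ℕ) : Bool := inB w && inB w' && beq (wordP w) (wordP w')

theorem eq_of_sameW {w w' : List ℕ} (h : sameW w w' = true) : wv Z w = wv Z w' := by
  simp only [sameW, Bool.and_eq_true, beq_iff] at h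
  obtain ⟨⟨h1, h2⟩, h3⟩ := h
  exact Units.ext (encM_injective (by rw [encM_wv h1, encM_wv h2, h3]))

/-- The packed matrix of minus one. -/
def negOne : List ℕ := List.ofFn fun i : Fin 52 => Nat.shiftLeft 10 (Nat.mul 32 i)

theorem encM_neg_one : encM (-1) = negOne := by decide +kernel

theorem matP_sign : matP 48 = negOne := by decide +kernel

theorem Z_sign : ((Z 48 : GL52) : M52) = -1 :=
  encM_injective (by rw [encM_Z (by norm_num), encM_neg_one, matP_sign])

theorem Z_sign_comm (g : GL52) : g * Z 48 = Z 48 * g :=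
  Units.ext (by rw [Units.val_mul, Units.val_mul, Z_sign, mul_neg, neg_mul, mul_one, one_mul])

theorem Z_sign_ne : Z 48 ≠ 1 := fun h => by
  have h1 := congrArg (fun g : GL52 => encM (g : M52)) h
  simp only [encM_Z (by norm_num : 48 < 49), Units.val_one, encM_one] at h1
  exact absurd (beq_iff.2 h1) (by decide +kernel)

end Cfsg.Lib.Chev.F4Cover
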