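import Cfsg.Agent.Lib.Chev.F4Cover.ChkFive0

/-! The rules and conjugations of `five` hold. -/

set_option autoImplicit false
set_option maxRecDepth 100000
set_option linter.style.longLine false

namespace Cfsg.Lib.Chev.F4Cover

open Cfsg.Lib.Schur.PcStem Data

theorem five_rules_0 : allOn (ruleOk fiveGens five) (List.range' 0 3) :=
  ⟨five_rule_0, ⟨five_rule_1, ⟨five_rule_2, trivial⟩⟩⟩

theorem five_rules : ∀ r < five.rules.length, ruleOk fiveGens five r = true := by
  intro r hr
  rw [show five.rules.length = 3 by decide +kernel] at hr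
  by_cases h0 : r < 3
  · exact allOn_get five_rules_0 r (List.mem_range'_1.2 (by omega))
  omega

theorem five_fuses_0 : allOn (fusOk fiveGens fiveConj five 0) (List.range' 0 2) :=
  ⟨five_fus_0_0, ⟨five_fus_0_1, trivial⟩⟩

theorem five_fuses_1 : allOn (fusOk fiveGens fiveConj five 1) (List.range' 0 2) :=
  ⟨five_fus_1_0, ⟨five_fus_1_1, trivial⟩⟩

theorem five_fuses : ∀ i < five.fus.length, ∀ t < (five.fusAt i).2.1.length,
    fusOk fiveGens fiveConj five i t = true := by
  intro i hi t ht
  rw [show five.fus.length = 2 by decide +kernel] at hi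
  interval_cases i
  · rw [show (five.fusAt 0).2.1.length = 2 by decide +kernel] at ht
    exact allOn_get five_fuses_0 t (List.mem_range'_1.2 (by omega))
  · rw [show (five.fusAt 1).2.1.length = 2 by decide +kernel] at ht
    exact allOn_get five_fuses_1 t (List.mem_range'_1.2 (by omega))

end Cfsg.Lib.Chev.F4Cover
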