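import Cfsg.Agent.Lib.Chev.F4Cover.ChkThree0

/-! The rules and conjugations of `three` hold. -/

set_option autoImplicit false
set_option maxRecDepth 100000
set_option linter.style.longLine false

namespace Cfsg.Lib.Chev.F4Cover

open Cfsg.Lib.Schur.PcStem Data

theorem three_rules_0 : allOn (ruleOk threeGens three) (List.range' 0 21) :=
  ⟨three_rule_0, ⟨three_rule_1, ⟨three_rule_2, ⟨three_rule_3, ⟨three_rule_4, ⟨three_rule_5, ⟨three_rule_6, ⟨three_rule_7, ⟨three_rule_8, ⟨three_rule_9, ⟨three_rule_10, ⟨three_rule_11, ⟨three_rule_12, ⟨three_rule_13, ⟨three_rule_14, ⟨three_rule_15, ⟨three_rule_16, ⟨three_rule_17, ⟨three_rule_18, ⟨three_rule_19, ⟨three_rule_20, trivial⟩⟩⟩⟩⟩⟩⟩⟩⟩⟩⟩⟩⟩⟩⟩⟩⟩⟩⟩⟩⟩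

theorem three_rules : ∀ r < three.rules.length, ruleOk threeGens three r = true := by
  intro r hr
  rw [show three.rules.length = 21 by decide +kernel] at hr
  by_cases h0 : r < 21
  · exact allOn_get three_rules_0 r (List.mem_range'_1.2 (by omega))
  omega

theorem three_fuses_0 : allOn (fusOk threeGens threeConj three 0) (List.range' 0 6) :=
  ⟨three_fus_0_0, ⟨three_fus_0_1, ⟨three_fus_0_2, ⟨three_fus_0_3, ⟨three_fus_0_4, ⟨three_fus_0_5, trivial⟩⟩⟩⟩⟩⟩

theorem three_fuses_1 : allOn (fusOk threeGens threeConj three 1) (List.range' 0 6) :=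
  ⟨three_fus_1_0, ⟨three_fus_1_1, ⟨three_fus_1_2, ⟨three_fus_1_3, ⟨three_fus_1_4, ⟨three_fus_1_5, trivial⟩⟩⟩⟩⟩⟩

theorem three_fuses : ∀ i < three.fus.length, ∀ t < (three.fusAt i).2.1.length,
    fusOk threeGens threeConj three i t = true := by
  intro i hi t ht
  rw [show three.fus.length = 2 by decide +kernel] at hi
  interval_cases i
  · rw [show (three.fusAt 0).2.1.length = 6 by decide +kernel] at ht
    exact allOn_get three_fuses_0 t (List.mem_range'_1.2 (by omega))
  · rw [show (three.fusAt 1).2.1.length = 6 by decide +kernel] at ht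
    exact allOn_get three_fuses_1 t (List.mem_range'_1.2 (by omega))

end Cfsg.Lib.Chev.F4Cover
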