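import Cfsg.Agent.Lib.Chev.F4Cover.ChkTwo0
import Cfsg.Agent.Lib.Chev.F4Cover.ChkTwo1
import Cfsg.Agent.Lib.Chev.F4Cover.ChkTwo2
import Cfsg.Agent.Lib.Chev.F4Cover.ChkTwo3
import Cfsg.Agent.Lib.Chev.F4Cover.ChkTwo4
import Cfsg.Agent.Lib.Chev.F4Cover.ChkTwo5
import Cfsg.Agent.Lib.Chev.F4Cover.ChkTwo6
import Cfsg.Agent.Lib.Chev.F4Cover.ChkTwo7

/-! The rules and conjugations of `two` hold. -/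

set_option autoImplicit false
set_option maxRecDepth 100000
set_option linter.style.longLine false

namespace Cfsg.Lib.Chev.F4Cover

open Cfsg.Lib.Schur.PcStem Data

theorem two_rules_0 : allOn (ruleOk twoGens two) (List.range' 0 25) :=
  ⟨two_rule_0, ⟨two_rule_1, ⟨two_rule_2, ⟨two_rule_3, ⟨two_rule_4, ⟨two_rule_5, ⟨two_rule_6, ⟨two_rule_7, ⟨two_rule_8, ⟨two_rule_9, ⟨two_rule_10, ⟨two_rule_11, ⟨two_rule_12, ⟨two_rule_13, ⟨two_rule_14, ⟨two_rule_15, ⟨two_rule_16, ⟨two_rule_17, ⟨two_rule_18, ⟨two_rule_19, ⟨two_rule_20, ⟨two_rule_21, ⟨two_rule_22, ⟨two_rule_23, ⟨two_rule_24, trivial⟩⟩⟩⟩⟩⟩⟩⟩⟩⟩⟩⟩⟩⟩⟩⟩⟩⟩⟩⟩⟩⟩⟩⟩⟩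

theorem two_rules_1 : allOn (ruleOk twoGens two) (List.range' 25 25) :=
  ⟨two_rule_25, ⟨two_rule_26, ⟨two_rule_27, ⟨two_rule_28, ⟨two_rule_29, ⟨two_rule_30, ⟨two_rule_31, ⟨two_rule_32, ⟨two_rule_33, ⟨two_rule_34, ⟨two_rule_35, ⟨two_rule_36, ⟨two_rule_37, ⟨two_rule_38, ⟨two_rule_39, ⟨two_rule_40, ⟨two_rule_41, ⟨two_rule_42, ⟨two_rule_43, ⟨two_rule_44, ⟨two_rule_45, ⟨two_rule_46, ⟨two_rule_47, ⟨two_rule_48, ⟨two_rule_49, trivial⟩⟩⟩⟩⟩⟩⟩⟩⟩⟩⟩⟩⟩⟩⟩⟩⟩⟩⟩⟩⟩⟩⟩⟩⟩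

theorem two_rules_2 : allOn (ruleOk twoGens two) (List.range' 50 25) :=
  ⟨two_rule_50, ⟨two_rule_51, ⟨two_rule_52, ⟨two_rule_53, ⟨two_rule_54, ⟨two_rule_55, ⟨two_rule_56, ⟨two_rule_57, ⟨two_rule_58, ⟨two_rule_59, ⟨two_rule_60, ⟨two_rule_61, ⟨two_rule_62, ⟨two_rule_63, ⟨two_rule_64, ⟨two_rule_65, ⟨two_rule_66, ⟨two_rule_67, ⟨two_rule_68, ⟨two_rule_69, ⟨two_rule_70, ⟨two_rule_71, ⟨two_rule_72, ⟨two_rule_73, ⟨two_rule_74, trivial⟩⟩⟩⟩⟩⟩⟩⟩⟩⟩⟩⟩⟩⟩⟩⟩⟩⟩⟩⟩⟩⟩⟩⟩⟩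

theorem two_rules_3 : allOn (ruleOk twoGens two) (List.range' 75 25) :=
  ⟨two_rule_75, ⟨two_rule_76, ⟨two_rule_77, ⟨two_rule_78, ⟨two_rule_79, ⟨two_rule_80, ⟨two_rule_81, ⟨two_rule_82, ⟨two_rule_83, ⟨two_rule_84, ⟨two_rule_85, ⟨two_rule_86, ⟨two_rule_87, ⟨two_rule_88, ⟨two_rule_89, ⟨two_rule_90, ⟨two_rule_91, ⟨two_rule_92, ⟨two_rule_93, ⟨two_rule_94, ⟨two_rule_95, ⟨two_rule_96, ⟨two_rule_97, ⟨two_rule_98, ⟨two_rule_99, trivial⟩⟩⟩⟩⟩⟩⟩⟩⟩⟩⟩⟩⟩⟩⟩⟩⟩⟩⟩⟩⟩⟩⟩⟩⟩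

theorem two_rules_4 : allOn (ruleOk twoGens two) (List.range' 100 25) :=
  ⟨two_rule_100, ⟨two_rule_101, ⟨two_rule_102, ⟨two_rule_103, ⟨two_rule_104, ⟨two_rule_105, ⟨two_rule_106, ⟨two_rule_107, ⟨two_rule_108, ⟨two_rule_109, ⟨two_rule_110, ⟨two_rule_111, ⟨two_rule_112, ⟨two_rule_113, ⟨two_rule_114, ⟨two_rule_115, ⟨two_rule_116, ⟨two_rule_117, ⟨two_rule_118, ⟨two_rule_119, ⟨two_rule_120, ⟨two_rule_121, ⟨two_rule_122, ⟨two_rule_123, ⟨two_rule_124, trivial⟩⟩⟩⟩⟩⟩⟩⟩⟩⟩⟩⟩⟩⟩⟩⟩⟩⟩⟩⟩⟩⟩⟩⟩⟩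

theorem two_rules_5 : allOn (ruleOk twoGens two) (List.range' 125 25) :=
  ⟨two_rule_125, ⟨two_rule_126, ⟨two_rule_127, ⟨two_rule_128, ⟨two_rule_129, ⟨two_rule_130, ⟨two_rule_131, ⟨two_rule_132, ⟨two_rule_133, ⟨two_rule_134, ⟨two_rule_135, ⟨two_rule_136, ⟨two_rule_137, ⟨two_rule_138, ⟨two_rule_139, ⟨two_rule_140, ⟨two_rule_141, ⟨two_rule_142, ⟨two_rule_143, ⟨two_rule_144, ⟨two_rule_145, ⟨two_rule_146, ⟨two_rule_147, ⟨two_rule_148, ⟨two_rule_149, trivial⟩⟩⟩⟩⟩⟩⟩⟩⟩⟩⟩⟩⟩⟩⟩⟩⟩⟩⟩⟩⟩⟩⟩⟩⟩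

theorem two_rules_6 : allOn (ruleOk twoGens two) (List.range' 150 25) :=
  ⟨two_rule_150, ⟨two_rule_151, ⟨two_rule_152, ⟨two_rule_153, ⟨two_rule_154, ⟨two_rule_155, ⟨two_rule_156, ⟨two_rule_157, ⟨two_rule_158, ⟨two_rule_159, ⟨two_rule_160, ⟨two_rule_161, ⟨two_rule_162, ⟨two_rule_163, ⟨two_rule_164, ⟨two_rule_165, ⟨two_rule_166, ⟨two_rule_167, ⟨two_rule_168, ⟨two_rule_169, ⟨two_rule_170, ⟨two_rule_171, ⟨two_rule_172, ⟨two_rule_173, ⟨two_rule_174, trivial⟩⟩⟩⟩⟩⟩⟩⟩⟩⟩⟩⟩⟩⟩⟩⟩⟩⟩⟩⟩⟩⟩⟩⟩⟩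

theorem two_rules_7 : allOn (ruleOk twoGens two) (List.range' 175 25) :=
  ⟨two_rule_175, ⟨two_rule_176, ⟨two_rule_177, ⟨two_rule_178, ⟨two_rule_179, ⟨two_rule_180, ⟨two_rule_181, ⟨two_rule_182, ⟨two_rule_183, ⟨two_rule_184, ⟨two_rule_185, ⟨two_rule_186, ⟨two_rule_187, ⟨two_rule_188, ⟨two_rule_189, ⟨two_rule_190, ⟨two_rule_191, ⟨two_rule_192, ⟨two_rule_193, ⟨two_rule_194, ⟨two_rule_195, ⟨two_rule_196, ⟨two_rule_197, ⟨two_rule_198, ⟨two_rule_199, trivial⟩⟩⟩⟩⟩⟩⟩⟩⟩⟩⟩⟩⟩⟩⟩⟩⟩⟩⟩⟩⟩⟩⟩⟩⟩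

theorem two_rules_8 : allOn (ruleOk twoGens two) (List.range' 200 25) :=
  ⟨two_rule_200, ⟨two_rule_201, ⟨two_rule_202, ⟨two_rule_203, ⟨two_rule_204, ⟨two_rule_205, ⟨two_rule_206, ⟨two_rule_207, ⟨two_rule_208, ⟨two_rule_209, ⟨two_rule_210, ⟨two_rule_211, ⟨two_rule_212, ⟨two_rule_213, ⟨two_rule_214, ⟨two_rule_215, ⟨two_rule_216, ⟨two_rule_217, ⟨two_rule_218, ⟨two_rule_219, ⟨two_rule_220, ⟨two_rule_221, ⟨two_rule_222, ⟨two_rule_223, ⟨two_rule_224, trivial⟩⟩⟩⟩⟩⟩⟩⟩⟩⟩⟩⟩⟩⟩⟩⟩⟩⟩⟩⟩⟩⟩⟩⟩⟩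

theorem two_rules_9 : allOn (ruleOk twoGens two) (List.range' 225 25) :=
  ⟨two_rule_225, ⟨two_rule_226, ⟨two_rule_227, ⟨two_rule_228, ⟨two_rule_229, ⟨two_rule_230, ⟨two_rule_231, ⟨two_rule_232, ⟨two_rule_233, ⟨two_rule_234, ⟨two_rule_235, ⟨two_rule_236, ⟨two_rule_237, ⟨two_rule_238, ⟨two_rule_239, ⟨two_rule_240, ⟨two_rule_241, ⟨two_rule_242, ⟨two_rule_243, ⟨two_rule_244, ⟨two_rule_245, ⟨two_rule_246, ⟨two_rule_247, ⟨two_rule_248, ⟨two_rule_249, trivial⟩⟩⟩⟩⟩⟩⟩⟩⟩⟩⟩⟩⟩⟩⟩⟩⟩⟩⟩⟩⟩⟩⟩⟩⟩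

theorem two_rules_10 : allOn (ruleOk twoGens two) (List.range' 250 25) :=
  ⟨two_rule_250, ⟨two_rule_251, ⟨two_rule_252, ⟨two_rule_253, ⟨two_rule_254, ⟨two_rule_255, ⟨two_rule_256, ⟨two_rule_257, ⟨two_rule_258, ⟨two_rule_259, ⟨two_rule_260, ⟨two_rule_261, ⟨two_rule_262, ⟨two_rule_263, ⟨two_rule_264, ⟨two_rule_265, ⟨two_rule_266, ⟨two_rule_267, ⟨two_rule_268, ⟨two_rule_269, ⟨two_rule_270, ⟨two_rule_271, ⟨two_rule_272, ⟨two_rule_273, ⟨two_rule_274, trivial⟩⟩⟩⟩⟩⟩⟩⟩⟩⟩⟩⟩⟩⟩⟩⟩⟩⟩⟩⟩⟩⟩⟩⟩⟩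

theorem two_rules_11 : allOn (ruleOk twoGens two) (List.range' 275 25) :=
  ⟨two_rule_275, ⟨two_rule_276, ⟨two_rule_277, ⟨two_rule_278, ⟨two_rule_279, ⟨two_rule_280, ⟨two_rule_281, ⟨two_rule_282, ⟨two_rule_283, ⟨two_rule_284, ⟨two_rule_285, ⟨two_rule_286, ⟨two_rule_287, ⟨two_rule_288, ⟨two_rule_289, ⟨two_rule_290, ⟨two_rule_291, ⟨two_rule_292, ⟨two_rule_293, ⟨two_rule_294, ⟨two_rule_295, ⟨two_rule_296, ⟨two_rule_297, ⟨two_rule_298, ⟨two_rule_299, trivial⟩⟩⟩⟩⟩⟩⟩⟩⟩⟩⟩⟩⟩⟩⟩⟩⟩⟩⟩⟩⟩⟩⟩⟩⟩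

theorem two_rules_12 : allOn (ruleOk twoGens two) (List.range' 300 25) :=
  ⟨two_rule_300, ⟨two_rule_301, ⟨two_rule_302, ⟨two_rule_303, ⟨two_rule_304, ⟨two_rule_305, ⟨two_rule_306, ⟨two_rule_307, ⟨two_rule_308, ⟨two_rule_309, ⟨two_rule_310, ⟨two_rule_311, ⟨two_rule_312, ⟨two_rule_313, ⟨two_rule_314, ⟨two_rule_315, ⟨two_rule_316, ⟨two_rule_317, ⟨two_rule_318, ⟨two_rule_319, ⟨two_rule_320, ⟨two_rule_321, ⟨two_rule_322, ⟨two_rule_323, ⟨two_rule_324, trivial⟩⟩⟩⟩⟩⟩⟩⟩⟩⟩⟩⟩⟩⟩⟩⟩⟩⟩⟩⟩⟩⟩⟩⟩⟩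

theorem two_rules : ∀ r < two.rules.length, ruleOk twoGens two r = true := by
  intro r hr
  rw [show two.rules.length = 325 by decide +kernel] at hr
  by_cases h0 : r < 25
  · exact allOn_get two_rules_0 r (List.mem_range'_1.2 (by omega))
  by_cases h1 : r < 50
  · exact allOn_get two_rules_1 r (List.mem_range'_1.2 (by omega))
  by_cases h2 : r < 75
  · exact allOn_get two_rules_2 r (List.mem_range'_1.2 (by omega))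
  by_cases h3 : r < 100
  · exact allOn_get two_rules_3 r (List.mem_range'_1.2 (by omega))
  by_cases h4 : r < 125
  · exact allOn_get two_rules_4 r (List.mem_range'_1.2 (by omega))
  by_cases h5 : r < 150
  · exact allOn_get two_rules_5 r (List.mem_range'_1.2 (by omega))
  by_cases h6 : r < 175
  · exact allOn_get two_rules_6 r (List.mem_range'_1.2 (by omega))
  by_cases h7 : r < 200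
  · exact allOn_get two_rules_7 r (List.mem_range'_1.2 (by omega))
  by_cases h8 : r < 225
  · exact allOn_get two_rules_8 r (List.mem_range'_1.2 (by omega))
  by_cases h9 : r < 250
  · exact allOn_get two_rules_9 r (List.mem_range'_1.2 (by omega))
  by_cases h10 : r < 275
  · exact allOn_get two_rules_10 r (List.mem_range'_1.2 (by omega))
  by_cases h11 : r < 300
  · exact allOn_get two_rules_11 r (List.mem_range'_1.2 (by omega))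
  by_cases h12 : r < 325
  · exact allOn_get two_rules_12 r (List.mem_range'_1.2 (by omega))
  omega

theorem two_fuses_0 : allOn (fusOk twoGens twoConj two 0) (List.range' 0 24) :=
  ⟨two_fus_0_0, ⟨two_fus_0_1, ⟨two_fus_0_2, ⟨two_fus_0_3, ⟨two_fus_0_4, ⟨two_fus_0_5, ⟨two_fus_0_6, ⟨two_fus_0_7, ⟨two_fus_0_8, ⟨two_fus_0_9, ⟨two_fus_0_10, ⟨two_fus_0_11, ⟨two_fus_0_12, ⟨two_fus_0_13, ⟨two_fus_0_14, ⟨two_fus_0_15, ⟨two_fus_0_16, ⟨two_fus_0_17, ⟨two_fus_0_18, ⟨two_fus_0_19, ⟨two_fus_0_20, ⟨two_fus_0_21, ⟨two_fus_0_22, ⟨two_fus_0_23, trivial⟩⟩⟩⟩⟩⟩⟩⟩⟩⟩⟩⟩⟩⟩⟩⟩⟩⟩⟩⟩⟩⟩⟩⟩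

theorem two_fuses_1 : allOn (fusOk twoGens twoConj two 1) (List.range' 0 24) :=
  ⟨two_fus_1_0, ⟨two_fus_1_1, ⟨two_fus_1_2, ⟨two_fus_1_3, ⟨two_fus_1_4, ⟨two_fus_1_5, ⟨two_fus_1_6, ⟨two_fus_1_7, ⟨two_fus_1_8, ⟨two_fus_1_9, ⟨two_fus_1_10, ⟨two_fus_1_11, ⟨two_fus_1_12, ⟨two_fus_1_13, ⟨two_fus_1_14, ⟨two_fus_1_15, ⟨two_fus_1_16, ⟨two_fus_1_17, ⟨two_fus_1_18, ⟨two_fus_1_19, ⟨two_fus_1_20, ⟨two_fus_1_21, ⟨two_fus_1_22, ⟨two_fus_1_23, trivial⟩⟩⟩⟩⟩⟩⟩⟩⟩⟩⟩⟩⟩⟩⟩⟩⟩⟩⟩⟩⟩⟩⟩⟩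

theorem two_fuses_2 : allOn (fusOk twoGens twoConj two 2) (List.range' 0 24) :=
  ⟨two_fus_2_0, ⟨two_fus_2_1, ⟨two_fus_2_2, ⟨two_fus_2_3, ⟨two_fus_2_4, ⟨two_fus_2_5, ⟨two_fus_2_6, ⟨two_fus_2_7, ⟨two_fus_2_8, ⟨two_fus_2_9, ⟨two_fus_2_10, ⟨two_fus_2_11, ⟨two_fus_2_12, ⟨two_fus_2_13, ⟨two_fus_2_14, ⟨two_fus_2_15, ⟨two_fus_2_16, ⟨two_fus_2_17, ⟨two_fus_2_18, ⟨two_fus_2_19, ⟨two_fus_2_20, ⟨two_fus_2_21, ⟨two_fus_2_22, ⟨two_fus_2_23, trivial⟩⟩⟩⟩⟩⟩⟩⟩⟩⟩⟩⟩⟩⟩⟩⟩⟩⟩⟩⟩⟩⟩⟩⟩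

theorem two_fuses_3 : allOn (fusOk twoGens twoConj two 3) (List.range' 0 24) :=
  ⟨two_fus_3_0, ⟨two_fus_3_1, ⟨two_fus_3_2, ⟨two_fus_3_3, ⟨two_fus_3_4, ⟨two_fus_3_5, ⟨two_fus_3_6, ⟨two_fus_3_7, ⟨two_fus_3_8, ⟨two_fus_3_9, ⟨two_fus_3_10, ⟨two_fus_3_11, ⟨two_fus_3_12, ⟨two_fus_3_13, ⟨two_fus_3_14, ⟨two_fus_3_15, ⟨two_fus_3_16, ⟨two_fus_3_17, ⟨two_fus_3_18, ⟨two_fus_3_19, ⟨two_fus_3_20, ⟨two_fus_3_21, ⟨two_fus_3_22, ⟨two_fus_3_23, trivial⟩⟩⟩⟩⟩⟩⟩⟩⟩⟩⟩⟩⟩⟩⟩⟩⟩⟩⟩⟩⟩⟩⟩⟩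

theorem two_fuses : ∀ i < two.fus.length, ∀ t < (two.fusAt i).2.1.length,
    fusOk twoGens twoConj two i t = true := by
  intro i hi t ht
  rw [show two.fus.length = 4 by decide +kernel] at hi
  interval_cases i
  · rw [show (two.fusAt 0).2.1.length = 24 by decide +kernel] at ht
    exact allOn_get two_fuses_0 t (List.mem_range'_1.2 (by omega))
  · rw [show (two.fusAt 1).2.1.length = 24 by decide +kernel] at ht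
    exact allOn_get two_fuses_1 t (List.mem_range'_1.2 (by omega))
  · rw [show (two.fusAt 2).2.1.length = 24 by decide +kernel] at ht
    exact allOn_get two_fuses_2 t (List.mem_range'_1.2 (by omega))
  · rw [show (two.fusAt 3).2.1.length = 24 by decide +kernel] at ht
    exact allOn_get two_fuses_3 t (List.mem_range'_1.2 (by omega))

end Cfsg.Lib.Chev.F4Cover
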