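import Cfsg.Agent.Lib.Chev.F4Cover.Cover
import Cfsg.Agent.Lib.Chev.F4Cover.RelsTwo
import Cfsg.Agent.Lib.Chev.F4Cover.RelsThree
import Cfsg.Agent.Lib.Chev.F4Cover.RelsFive
import Cfsg.Agent.Lib.Chev.F4Cover.RelsSeven
import Cfsg.Agent.Lib.Chev.F4Cover.ChkCard
import Cfsg.Agent.Lib.Chev.F4Cover.CertTwo
import Cfsg.Agent.Lib.Chev.F4Cover.CertOdd
import Cfsg.Agent.Lib.Chev.Descent
import Cfsg.Agent.Lib.Schur.Universe

/-!
# The Schur multiplier of the group of type F4 over two elements has order two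
-/

set_option autoImplicit false
set_option maxRecDepth 4000

namespace Cfsg.Lib.Chev.F4Cover

open Cfsg.Lie Cfsg.Lib.Concrete Cfsg.Lib.Schur Cfsg.Lib.Schur.ModSplit Cfsg.Lib.Schur.PcStem

theorem step {gw : List (List ℕ)} {p n i v N : ℕ} (h : stepOk gw p n i v = true)
    (hN : N ≤ Nat.card (lay Gam gw n (i + 1))) : p * N ≤ Nat.card (lay Gam gw n i) :=
  (Nat.mul_le_mul_left p hN).trans (card_lay_step Z_mem h)

theorem noStem_of_checks {gw fw : List (List ℕ)} {d : PcData} {c : PcCert} {p m : ℕ} (hp : p.Prime)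
    {A : SVec p m} (hc : d.check c A = true) (hr : ∀ r < d.rules.length, ruleOk gw d r = true)
    (hf : ∀ i < d.fus.length, ∀ t < (d.fusAt i).2.1.length, fusOk gw fw d i t = true)
    (hcard : p ^ d.n ≤ Nat.card (lay Gam gw d.n 0))
    (hmax : ¬ p ^ (d.n + 1) ∣ 2 ^ 25 * (3 ^ 6 * 5 ^ 2 * 7 ^ 2 * (13 * 17))) : NoStem p ↥Gam := by
  haveI : Finite GL52 := inferInstance
  rw [lay_zero] at hcard
  have S := setting_of_checks Z_mem hr hf
  refine noStem_of_pc hp hc S hcard fun hdvd => hmax ?_
  have hc' := hc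
  simp only [PcData.check, Bool.and_eq_true, Nat.beq_eq] at hc'
  have hdp : d.p = p := hc'.1.1.1.1.1.1
  have hle := card_sub_le d hc'.1.1.1.1.1.2 _ S.rules
  rw [hdp] at hle
  rw [← card_Gam, ← Subgroup.card_mul_index (PcStem.sub d fun i => elH Gam (gw.getD i [])),
    le_antisymm hle hcard, pow_succ]
  exact Nat.mul_dvd_mul_left _ hdvd

theorem two_gens : (List.range' 24 25).all (fun r => (List.range 25).any fun i => Data.twoGens.getD i [] == [r]) = true := by
  decide +kernel

theorem card_two : 2 ^ 25 ≤ Nat.card (lay Gam Data.twoGens 25 0) := by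
  haveI : Finite GL52 := inferInstance
  set S := lay Gam Data.twoGens 25 0 with hS
  have hmem : ∀ r, 24 ≤ r → (hr : r < 49) → (⟨Z r, Z_mem r hr⟩ : ↥Gam) ∈ S := by
    intro r h1 h2
    obtain ⟨i, hi, he⟩ := List.any_eq_true.1 (List.all_eq_true.1 two_gens r (List.mem_range'_1.2 ⟨h1, by omega⟩))
    rw [beq_iff_eq] at he
    refine Subgroup.subset_closure ⟨i, Nat.zero_le _, List.mem_range.1 hi, Subtype.ext ?_⟩
    rw [coe_elH Z_mem, he, wv_cons, wv_nil, mul_one]
  have hker : cov.ker ≤ S := by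
    rw [ker_eq, Subgroup.zpowers_le]
    exact hmem 48 (by norm_num) (by norm_num)
  have hpos : (chevF4.posUnipotent F2).subgroupOf (chevF4.group F2) ≤ S.map cov := by
    have hle : chevF4.posUnipotent F2 ≤ (S.map cov).map (chevF4.group F2).subtype := by
      refine (Subgroup.closure_le _).2 ?_
      rintro g ⟨r, t, hr, e⟩
      rw [eq_xg cF e]
      rcases zmod2_cases t with rfl | rfl
      · rw [show xg cF r (0 : F2) = 1 from Units.ext (by rw [coe_xg, x_zero']; rfl)]
        exact Subgroup.one_mem _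
      · have hp : chevF4.nroots ≤ 2 * r := (cF.isPos_iff hr.1).1 hr
        rw [nroots_eq] at hp
        have hr' : r < 48 := nroots_eq ▸ hr.1
        exact ⟨xe r, ⟨⟨Z r, Z_mem r (by omega)⟩, hmem r (by omega) (by omega), cov_Z hr'⟩, rfl⟩
    intro x hx
    obtain ⟨y, hy, hyx⟩ := hle hx
    exact Subtype.ext hyx ▸ hy
  have h2 : 2 ^ 24 ≤ Nat.card (S.map cov) := by
    refine le_trans (le_of_eq ?_) (Subgroup.card_le_of_le hpos)
    rw [Nat.card_congr (Subgroup.subgroupOfEquivOfLe (pos_le_group cF)).toEquiv,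
      card_pos cF fullCertF4, nroots_eq, Nat.card_zmod]
  let f : ↥S →* GF := cov.comp S.subtype
  have hfker : Nat.card f.ker = 2 := by
    rw [show f.ker = cov.ker.subgroupOf S from rfl,
      Nat.card_congr (Subgroup.subgroupOfEquivOfLe hker).toEquiv, card_ker]
  have h := Subgroup.card_mul_index f.ker
  rw [Subgroup.index_ker, hfker, MonoidHom.range_eq_map, ← Subgroup.map_map, ← MonoidHom.range_eq_map,
    Subgroup.range_subtype] at h
  rw [← h, pow_succ, mul_comm]
  exact Nat.mul_le_mul_left 2 h2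

theorem noStem_two : NoStem 2 ↥Gam :=
  noStem_of_checks (gw := Data.twoGens) (fw := Data.twoConj) Nat.prime_two two_check two_rules two_fuses
    card_two (by show ¬ 2 ^ (25 + 1) ∣ _; norm_num)

theorem noStem_three : NoStem 3 ↥Gam :=
  noStem_of_checks (gw := Data.threeGens) (fw := Data.threeConj) Nat.prime_three three_check three_rules three_fuses
    (show 3 ^ 6 ≤ Nat.card (lay Gam Data.threeGens 6 0) from
      le_trans (le_of_eq (show 3 ^ 6 = 3 * (3 * threeBase.length) by decide +kernel))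
        (step three_step_0 (step three_step_1 (card_lay_base Z_mem three_base))))
    (by show ¬ 3 ^ (6 + 1) ∣ _; norm_num)

theorem noStem_five : NoStem 5 ↥Gam :=
  noStem_of_checks (gw := Data.fiveGens) (fw := Data.fiveConj) (by norm_num) five_check five_rules five_fuses
    (show 5 ^ 2 ≤ Nat.card (lay Gam Data.fiveGens 2 0) from
      le_trans (le_of_eq (show 5 ^ 2 = 5 * (5 * fiveBase.length) by decide +kernel))
        (step five_step_0 (step five_step_1 (card_lay_base Z_mem five_base))))
    (by show ¬ 5 ^ (2 + 1) ∣ _; norm_num)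

theorem noStem_seven : NoStem 7 ↥Gam :=
  noStem_of_checks (gw := Data.sevenGens) (fw := Data.sevenConj) (by norm_num) seven_check seven_rules seven_fuses
    (show 7 ^ 2 ≤ Nat.card (lay Gam Data.sevenGens 2 0) from
      le_trans (le_of_eq (show 7 ^ 2 = 7 * (7 * sevenBase.length) by decide +kernel))
        (step seven_step_0 (step seven_step_1 (card_lay_base Z_mem seven_base))))
    (by show ¬ 7 ^ (2 + 1) ∣ _; norm_num)

theorem noStem_Gam (p : ℕ) (hp : p.Prime) : NoStem p ↥Gam := by
  haveI : Finite GL52 := inferInstance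
  by_cases h2 : p = 2
  · subst h2; exact noStem_two
  by_cases h3 : p = 3
  · subst h3; exact noStem_three
  by_cases h5 : p = 5
  · subst h5; exact noStem_five
  by_cases h7 : p = 7
  · subst h7; exact noStem_seven
  refine noStem_of_not_sq_dvd hp ?_
  rw [card_Gam]
  intro h
  have hc : ∀ q k : ℕ, q.Prime → p ≠ q → Nat.Coprime (p ^ 2) (q ^ k) := fun q k hq hne =>
    Nat.Coprime.pow _ _ ((Nat.coprime_primes hp hq).2 hne)
  have hd := (hc 2 25 Nat.prime_two h2).dvd_of_dvd_mul_left h
  have hd2 := (((hc 3 6 Nat.prime_three h3).mul_right (hc 5 2 (by norm_num) h5)).mul_right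
    (hc 7 2 (by norm_num) h7)).dvd_of_dvd_mul_left hd
  have hle : p ^ 2 ≤ 13 * 17 := Nat.le_of_dvd (by norm_num) hd2
  have hp15 : p < 15 := by nlinarith
  interval_cases p <;> first | omega | exact absurd hp (by norm_num) | exact absurd hd2 (by norm_num)

attribute [local irreducible] Gam cov ψ Cfsg.Lie.chevF4 Cfsg.Lie.ChevalleyDatum.group

theorem multiplier_two : HasCyclicSchurMultiplier GF 2 := by
  haveI : Finite GL52 := inferInstance
  haveI : Fact (Nat.Prime 2) := ⟨Nat.prime_two⟩
  have hA : Nat.card (Multiplicative (ZMod 2)) = 2 := by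
    rw [Nat.card_congr Multiplicative.toAdd, Nat.card_zmod]
  let ek : cov.ker ≃* Multiplicative (ZMod 2) := mulEquivOfPrimeCardEq (p := 2) (G := ↥cov.ker) card_ker hA
  exact hasSchurMultiplier_of_cover (G := GF) (Γ₀ := ↥Gam) GF_perfect isStem noStem_Gam ek

theorem map_map_cancel {F E : Type*} [Field F] [Field E] (e : F ≃+* E) {ι : Type*} [Fintype ι] [DecidableEq ι]
    (g : GL ι E) :
    Matrix.GeneralLinearGroup.map e.toRingHom (Matrix.GeneralLinearGroup.map e.symm.toRingHom g) = g := by
  refine Units.ext (Matrix.ext fun i j => ?_)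
  show e (e.symm ((g : Matrix ι ι E) i j)) = _
  exact e.apply_symm_apply _

/-- A ring equivalence of fields gives an equivalence of the groups. -/
noncomputable def groupEquivOfRingEquiv {D : ChevalleyDatum} {T : Tbl} {F E : Type*} [Field F] [Field E]
    (e : F ≃+* E) (C : Cert D T) : ↥(D.group F) ≃* ↥(D.group E) where
  toFun g := ⟨Matrix.GeneralLinearGroup.map e.toRingHom g.1, map_group_le C e.toRingHom g.2⟩
  invFun g := ⟨Matrix.GeneralLinearGroup.map e.symm.toRingHom g.1, map_group_le C e.symm.toRingHom g.2⟩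
  left_inv g := Subtype.ext (map_map_cancel e.symm g.1)
  right_inv g := Subtype.ext (map_map_cancel e g.1)
  map_mul' a b := Subtype.ext (map_mul _ a.1 b.1)

theorem exists_groupEquiv {F : Type*} [Field F] [Fintype F] (hF : Fintype.card F = 2) :
    Nonempty (GF ≃* ↥(chevF4.group F)) := by
  let e : F2 ≃+* F := ZMod.ringEquivOfPrime F Nat.prime_two hF
  exact ⟨groupEquivOfRingEquiv e cF⟩

theorem multiplier_of_card {F : Type*} [Field F] [Fintype F] (hF : Fintype.card F = 2) :
    HasCyclicSchurMultiplier ↥(chevF4.group F) 2 := by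
  obtain ⟨e⟩ := exists_groupEquiv hF
  exact Cfsg.Lib.Schur.hasSchur_of_equiv (A := Multiplicative (ZMod 2)) e multiplier_two

end Cfsg.Lib.Chev.F4Cover
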