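import Mathlib
import Cfsg.Agent.Lib.CosetEnum.Defs

/-!
# Packed 52 by 52 matrices over the integers modulo 11, for kernel computations

A row is one natural number with digits in base `2 ^ 32`; a matrix is the list of its rows.
-/

set_option autoImplicit false

namespace Cfsg.Lib.Chev.F4Cover

open Cfsg.Lib.CosetEnum (force force_eq)

/-- Pack digits. -/
def pack {k : ℕ} (v : Fin k → ℕ) : ℕ :=
  (List.ofFn v).foldr (fun a r => Nat.add a (Nat.mul 4294967296 r)) 0

/-- The mask selecting the low twelve bits of each of 52 digits. -/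
def qmask : ℕ := pack fun _ : Fin 52 => 4095

/-- Reduce each of 52 small digits modulo 11. -/
def red (n : ℕ) : ℕ :=
  Nat.sub n (Nat.mul 11 (Nat.land (Nat.shiftRight (Nat.mul n 95326) 20) qmask))

/-- A combination of packed rows with coefficients the digits of the first argument. -/
def combAux (N : List ℕ) : ℕ → ℕ :=
  List.rec (fun _ => 0)
    (fun r _ ih a => Nat.add (Nat.mul (Nat.land a 4294967295) r) (ih (Nat.shiftRight a 32))) N

/-- The combination, evaluated digit by digit. -/
noncomputable def combK (N : List ℕ) : ℕ → ℕ :=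
  List.rec (motive := fun _ => ℕ → ℕ) (fun _ => 0)
    (fun r _ ih a => force a fun a => Nat.add (Nat.mul (Nat.land a 4294967295) r) (ih (Nat.shiftRight a 32))) N

/-- The product of packed matrices. -/
noncomputable def mul (M N : List ℕ) : List ℕ :=
  List.rec (motive := fun _ => List ℕ) []
    (fun a _ ih => force (combK N a) fun y => force (red y) fun z => z :: ih) M

theorem combK_eq : ∀ (N : List ℕ) (a : ℕ), combK N a = combAux N a
  | [], _ => rfl
  | r :: N, a => by
      show force a (fun a => Nat.add (Nat.mul (Nat.land a 4294967295) r) (combK N (Nat.shiftRight a 32))) = _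
      rw [force_eq, combK_eq N]
      rfl

theorem mul_eq : ∀ (M N : List ℕ), mul M N = M.map fun a => red (combAux N a)
  | [], _ => rfl
  | a :: M, N => by
      show force (combK N a) (fun y => force (red y) fun z => z :: mul M N) = _
      rw [force_eq, force_eq, combK_eq, mul_eq M N]
      rfl

theorem pack_succ {k : ℕ} (v : Fin (k + 1) → ℕ) :
    pack v = v 0 + 4294967296 * pack fun j => v j.succ := by
  simp [pack, List.ofFn_succ]

theorem pack_eq_sum : ∀ {k : ℕ} (v : Fin k → ℕ), pack v = ∑ j : Fin k, v j * 4294967296 ^ (j : ℕ)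
  | 0, _ => rfl
  | k + 1, v => by
      rw [pack_succ, pack_eq_sum, Fin.sum_univ_succ, Finset.mul_sum]
      simp only [Fin.val_zero, pow_zero, mul_one, Fin.val_succ, pow_succ]
      congr 1
      exact Finset.sum_congr rfl fun j _ => by ring

theorem sum_mul_pack {m k : ℕ} (c : Fin m → ℕ) (w : Fin m → Fin k → ℕ) :
    ∑ i, c i * pack (w i) = pack fun j => ∑ i, c i * w i j := by
  simp only [pack_eq_sum, Finset.mul_sum, Finset.sum_mul, mul_assoc]
  exact Finset.sum_comm

theorem combAux_ofFn : ∀ {m : ℕ} (c r : Fin m → ℕ), (∀ i, c i < 4294967296) →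
    combAux (List.ofFn r) (pack c) = ∑ i, c i * r i
  | 0, _, _, _ => rfl
  | m + 1, c, r, hc => by
      have h1 : Nat.land (pack c) 4294967295 = c 0 := by
        show pack c &&& (2 ^ 32 - 1) = c 0
        rw [Nat.and_two_pow_sub_one_eq_mod, pack_succ]
        have := hc 0
        omega
      have h2 : Nat.shiftRight (pack c) 32 = pack fun j => c j.succ := by
        show pack c >>> 32 = _
        rw [Nat.shiftRight_eq_div_pow, pack_succ]
        have := hc 0
        omega
      rw [List.ofFn_succ, Fin.sum_univ_succ]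
      show Nat.add (Nat.mul (Nat.land (pack c) 4294967295) (r 0))
        (combAux (List.ofFn fun i => r i.succ) (Nat.shiftRight (pack c) 32)) = _
      rw [h1, h2, combAux_ofFn _ _ fun i => hc i.succ]
      rfl

theorem and_mask_succ (x m : ℕ) :
    x &&& (4095 + 4294967296 * m) = (x % 4294967296 &&& 4095) + 4294967296 * (x / 4294967296 &&& m) := by
  have h1 : (x &&& (4095 + 4294967296 * m)) % 2 ^ 32 = x % 2 ^ 32 &&& (4095 + 4294967296 * m) % 2 ^ 32 :=
    Nat.and_mod_two_pow ..
  have h2 : (x &&& (4095 + 4294967296 * m)) / 2 ^ 32 = x / 2 ^ 32 &&& (4095 + 4294967296 * m) / 2 ^ 32 :=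
    Nat.and_div_two_pow ..
  have e1 : (4095 + 4294967296 * m) % 2 ^ 32 = 4095 := by omega
  have e2 : (4095 + 4294967296 * m) / 2 ^ 32 = m := by omega
  rw [e1] at h1
  rw [e2] at h2
  norm_num at h1 h2 ⊢
  omega

theorem quot_pack : ∀ {k : ℕ} (w : Fin k → ℕ), (∀ j, w j < 5300) →
    (pack w * 95326) >>> 20 &&& pack (fun _ : Fin k => 4095) = pack fun j => w j / 11
  | 0, w, _ => by simp [pack]
  | k + 1, w, hw => by
      have ih := quot_pack (fun j => w j.succ) fun j => hw _
      rw [pack_succ (fun _ : Fin (k + 1) => 4095), and_mask_succ]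
      rw [pack_succ w, pack_succ (fun j => w j / 11)]
      set P := pack fun j : Fin k => w j.succ with hP
      have h0 := hw 0
      rw [Nat.shiftRight_eq_div_pow] at ih ⊢
      have e1 : (w 0 + 4294967296 * P) * 95326 / 2 ^ 20 = w 0 / 11 + 4096 * (P * 95326) := by omega
      have e2 : (w 0 / 11 + 4096 * (P * 95326)) / 4294967296 = P * 95326 / 2 ^ 20 := by omega
      have e3 : (w 0 / 11 + 4096 * (P * 95326)) % 4294967296 &&& 4095 = w 0 / 11 := by
        rw [show (4095 : ℕ) = 2 ^ 12 - 1 from rfl, Nat.and_two_pow_sub_one_eq_mod]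
        omega
      rw [e1, e2, e3, ih]

theorem pack_mod_add : ∀ {k : ℕ} (w : Fin k → ℕ),
    pack w = pack (fun j => w j % 11) + 11 * pack (fun j => w j / 11)
  | 0, _ => rfl
  | k + 1, w => by
      rw [pack_succ, pack_succ (fun j => w j % 11), pack_succ (fun j => w j / 11)]
      have := pack_mod_add fun j => w j.succ
      have := Nat.mod_add_div (w 0) 11
      omega

theorem red_pack (w : Fin 52 → ℕ) (hw : ∀ j, w j < 5300) : red (pack w) = pack fun j => w j % 11 := by
  show pack w - 11 * ((pack w * 95326) >>> 20 &&& pack (fun _ : Fin 52 => 4095)) = _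
  rw [quot_pack w hw, pack_mod_add w]
  omega

theorem pack_injective : ∀ {k : ℕ} {v w : Fin k → ℕ}, (∀ j, v j < 4294967296) → (∀ j, w j < 4294967296) →
    pack v = pack w → v = w
  | 0, _, _, _, _, _ => funext fun j => j.elim0
  | k + 1, v, w, hv, hw, h => by
      rw [pack_succ, pack_succ] at h
      have := hv 0
      have := hw 0
      have h0 : v 0 = w 0 := by omega
      have h1 := pack_injective (fun j => hv j.succ) (fun j => hw j.succ)
        (show pack (fun j => v j.succ) = pack (fun j => w j.succ) by omega)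
      funext j
      exact Fin.cases h0 (fun i => congrFun h1 i) j

/-- A 52 by 52 matrix over the integers modulo 11. -/
abbrev M52 := Matrix (Fin 52) (Fin 52) (ZMod 11)

/-- The general linear group in dimension 52 over the integers modulo 11. -/
abbrev GL52 := GL (Fin 52) (ZMod 11)

/-- The packed form of a matrix. -/
def encM (A : M52) : List ℕ := List.ofFn fun i => pack fun j => (A i j).val

theorem encM_injective : Function.Injective encM := by
  intro A B h
  have hb : ∀ (x : ZMod 11), x.val < 4294967296 := fun x => (ZMod.val_lt x).trans (by norm_num)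
  ext i j
  have h1 := pack_injective (fun _ => hb _) (fun _ => hb _) (congrFun (List.ofFn_injective h) i)
  exact ZMod.val_injective 11 (congrFun h1 j)

attribute [local irreducible] combAux pack red qmask in
theorem encM_mul (A B : M52) : encM (A * B) = mul (encM A) (encM B) := by
  have hlt : ∀ x : ZMod 11, x.val < 11 := ZMod.val_lt
  rw [mul_eq]
  unfold encM
  rw [List.map_ofFn]
  refine congrArg List.ofFn (funext fun i => ?_)
  rw [Function.comp_apply]
  have hlt' : ∀ k : Fin 52, (A i k).val < 4294967296 := fun k => (hlt _).trans (by norm_num)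
  have hb : ∀ j : Fin 52, (∑ k, (A i k).val * (B k j).val) < 5300 := fun j => by
    have h := Finset.sum_le_card_nsmul Finset.univ (fun k : Fin 52 => (A i k).val * (B k j).val) 100
      fun k _ => Nat.mul_le_mul (Nat.le_of_lt_succ (hlt (A i k))) (Nat.le_of_lt_succ (hlt (B k j)))
    rw [Finset.card_univ, Fintype.card_fin, smul_eq_mul] at h
    omega
  rw [combAux_ofFn _ _ hlt', sum_mul_pack, red_pack _ hb]
  refine congrArg pack (funext fun j => ?_)
  rw [← ZMod.val_natCast, Matrix.mul_apply]
  refine congrArg ZMod.val ?_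
  simp only [Nat.cast_sum, Nat.cast_mul, ZMod.natCast_zmod_val]

theorem land_qmask : ∀ (k x : ℕ),
    x &&& pack (fun _ : Fin k => 4095) = pack fun j : Fin k => x / 4294967296 ^ (j : ℕ) % 4096
  | 0, x => by simp [pack]
  | k + 1, x => by
      have e : x % 4294967296 &&& 4095 = x % 4096 := by
        rw [show (4095 : ℕ) = 2 ^ 12 - 1 from rfl, Nat.and_two_pow_sub_one_eq_mod]
        omega
      rw [pack_succ (fun _ : Fin (k + 1) => 4095), and_mask_succ, land_qmask k, e,
        pack_succ (fun j : Fin (k + 1) => x / 4294967296 ^ (j : ℕ) % 4096)]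
      simp only [Fin.val_zero, pow_zero, Nat.div_one, Fin.val_succ, pow_succ', ← Nat.div_div_eq_div_mul]

/-- A packed row with 52 digits below eleven. -/
def canonRow (r : ℕ) : Bool := Nat.beq (Nat.land r qmask) r && Nat.beq (red r) r

/-- A packed matrix in canonical form. -/
def canon (M : List ℕ) : Bool := Nat.beq M.length 52 && M.all canonRow

theorem canonRow_spec {r : ℕ} (h : canonRow r = true) :
    ∃ w : Fin 52 → ℕ, r = pack w ∧ ∀ j, w j < 11 := by
  simp only [canonRow, Bool.and_eq_true, Nat.beq_eq] at h
  obtain ⟨h1, h2⟩ := h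
  have e : r = pack fun j : Fin 52 => r / 4294967296 ^ (j : ℕ) % 4096 := h1.symm.trans (land_qmask 52 r)
  have hlt : ∀ j : Fin 52, r / 4294967296 ^ (j : ℕ) % 4096 < 5300 := fun j =>
    (Nat.mod_lt _ (by norm_num)).trans (by norm_num)
  refine ⟨_, e, fun j => ?_⟩
  have h3 : red (pack fun j : Fin 52 => r / 4294967296 ^ (j : ℕ) % 4096) =
      pack fun j : Fin 52 => r / 4294967296 ^ (j : ℕ) % 4096 := by rw [← e]; exact h2
  rw [red_pack _ hlt] at h3
  have h4 := congrFun (pack_injective (fun i => ((Nat.mod_lt _ (by norm_num)).trans (by norm_num)))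
    (fun i => (hlt i).trans (by norm_num)) h3) j
  rw [← h4]
  exact Nat.mod_lt _ (by norm_num)

theorem exists_encM {M : List ℕ} (h : canon M = true) : ∃ A : M52, encM A = M := by
  simp only [canon, Bool.and_eq_true, Nat.beq_eq, List.all_eq_true] at h
  obtain ⟨hlen, hrow⟩ := h
  choose w hw hlt using fun i : Fin 52 =>
    canonRow_spec (hrow (M[(i : ℕ)]'(by rw [hlen]; exact i.2)) (List.getElem_mem _))
  refine ⟨fun i j => (w i j : ZMod 11), List.ext_getElem (by simp [encM, hlen]) fun i h1 h2 => ?_⟩
  simp only [encM, List.getElem_ofFn]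
  rw [hw ⟨i, by simpa [encM] using h1⟩]
  exact congrArg pack (funext fun j => by rw [ZMod.val_natCast, Nat.mod_eq_of_lt (hlt _ j)])

/-- The packed identity. -/
def one : List ℕ := List.ofFn fun i : Fin 52 => Nat.shiftLeft 1 (Nat.mul 32 i)

theorem encM_one : encM 1 = one := by decide +kernel

/-- Boolean equality of packed matrices. -/
def beq (M N : List ℕ) : Bool :=
  List.rec (fun K => K.isEmpty)
    (fun a _ ih K => match K with
      | [] => false
      | b :: K' => Nat.beq a b && ih K') M N

theorem beq_iff : ∀ {M N : List ℕ}, beq M N = true ↔ M = N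
  | [], [] => by simp [beq]
  | [], _ :: _ => by simp [beq]
  | _ :: _, [] => by simp [beq]
  | a :: M, b :: N => by
      show (Nat.beq a b && beq M N) = true ↔ _
      rw [Bool.and_eq_true, beq_iff]
      simp

end Cfsg.Lib.Chev.F4Cover
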