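import Cfsg.Agent.Lib.Chev.F4Cover.Root
import Cfsg.Agent.Lib.Chev.Presentation.CTCerts
import Cfsg.Agent.Lib.Chev.Presentation.CurtisTits
import Cfsg.Agent.Lib.Chev.Presentation.Steinberg

/-!
# The relators of Curtis and Tits hold projectively in dimension 52
-/

set_option autoImplicit false
set_option maxRecDepth 4000
set_option linter.unusedSectionVars false

namespace Cfsg.Lib.Chev.F4Cover

open Cfsg.Lie Cfsg.Lib.Concrete Cfsg.Lib.Schur Cfsg.Lib.Schur.ModSplit Cfsg.Lib.Schur.PcStem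

/-- The field of two elements. -/
abbrev F2 := ZMod 2

/-- The sign subgroup. -/
noncomputable def sgnSub : Subgroup GL52 := Subgroup.zpowers (Z 48)

theorem sgnSub_le_center : sgnSub ≤ Subgroup.center GL52 :=
  Subgroup.zpowers_le.2 (Subgroup.mem_center_iff.2 Z_sign_comm)

instance : sgnSub.Normal :=
  ⟨fun n hn g => by rwa [Subgroup.mem_center_iff.1 (sgnSub_le_center hn) g, mul_inv_cancel_right]⟩

/-- The projective group. -/
abbrev PG := GL52 ⧸ sgnSub

/-- The map to the projective group. -/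
noncomputable def prj : GL52 →* PG := QuotientGroup.mk' sgnSub

theorem prj_sign : prj (Z 48) = 1 :=
  (QuotientGroup.eq_one_iff _).2 (Subgroup.mem_zpowers _)

/-- The image of a letter. -/
noncomputable def zq (r : ℕ) : PG := prj (Z r)

theorem zq_mul_self {r : ℕ} (hr : r < 49) : zq r * zq r = 1 := by
  rw [zq, ← map_mul, Z_mul_self hr, map_one]

theorem zq_inv {r : ℕ} (hr : r < 49) : (zq r)⁻¹ = zq r := inv_eq_of_mul_eq_one_right (zq_mul_self hr)

theorem prj_wv (w : List ℕ) : prj (wv Z w) = (w.map zq).prod := by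
  rw [wv, map_list_prod, List.map_map]
  rfl

theorem prj_wv_sgn (w : List ℕ) (b : ℕ) : prj (wv Z (w ++ sgnW b)) = (w.map zq).prod := by
  rw [wv_append, map_mul, prj_wv, sgnW]
  split <;> simp [prj_sign, wv_cons, wv_nil]

theorem zmod2_cases : ∀ t : F2, t = 0 ∨ t = 1 := by decide

/-- The datum of the type. -/
abbrev cF : Cert chevF4 tblF4 := fullCertF4.comm.cert

theorem nroots_eq : chevF4.nroots = 48 := by decide +kernel

theorem rank_eq : chevF4.rank = 4 := rfl

/-- The images of the generators. -/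
noncomputable def img (p : Fin chevF4.nroots × F2) : PG :=
  open Classical in if IsPairRoot chevF4 (p.1 : ℕ) ∧ p.2 ≠ 0 then zq (p.1 : ℕ) else 1

/-- The image of a root element. -/
noncomputable def xq (r : ℕ) (t : F2) : PG := if t = 0 then 1 else zq r

theorem lift_img {r : ℕ} (h : IsPairRoot chevF4 r) (t : F2) :
    FreeGroup.lift img (chevF4.stX r t) = xq r t := by
  have hr : r < chevF4.nroots := by obtain ⟨i, -, j, -, hJ⟩ := h; exact hJ.1
  rw [lift_stX _ hr, img, xq]
  by_cases ht : t = 0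
  · rw [if_neg (fun e => e.2 ht), if_pos ht]
  · rw [if_pos ⟨h, ht⟩, if_neg ht]

theorem xq_terms (L : List (ℕ × ℤ × ℕ × ℕ)) :
    (L.map fun c => xq (tEval (1 : F2) 1 c).1 (tEval (1 : F2) 1 c).2).prod =
      (((L.filter fun c => decide (c.2.1 % 2 ≠ 0)).map Prod.fst).map zq).prod := by
  induction L with
  | nil => simp
  | cons c L ih =>
    have e : ((tEval (1 : F2) 1 c).2 = 0) ↔ c.2.1 % 2 = 0 := by
      have h1 : (-1 : F2) = 1 := by decide
      rw [tEval, h1, one_pow, one_pow, mul_one, mul_one, ZMod.intCast_zmod_eq_zero_iff_dvd]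
      exact ⟨Int.emod_eq_zero_of_dvd, Int.dvd_of_emod_eq_zero⟩
    rw [List.map_cons, List.prod_cons, ih, List.filter_cons]
    by_cases hc : c.2.1 % 2 = 0
    · rw [xq, if_pos (e.2 hc), one_mul, if_neg (by simpa using hc)]
    · rw [xq, if_neg (mt e.1 hc), if_pos (by simpa using hc), List.map_cons, List.map_cons, List.prod_cons]
      rfl

theorem anyBelow_of {f : ℕ → Bool} {k : ℕ} : ∀ {n : ℕ}, k < n → f k = true → anyBelow f n = true
  | 0, h, _ => absurd h (Nat.not_lt_zero k)
  | n + 1, h, hf => by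
    show Bool.rec (anyBelow f n) true (f n) = true
    cases hn : f n
    · rcases Nat.lt_succ_iff_lt_or_eq.1 h with h' | rfl
      · exact anyBelow_of h' hf
      · rw [hf] at hn; exact absurd hn (by decide)
    · rfl

theorem comm_rel {i j r s : ℕ} (hi : i < 4) (hj : j < 4) (hr : chevF4.InRootSub {i, j} r)
    (hs : chevF4.InRootSub {i, j} s) (h1 : s ≠ r) (h2 : s ≠ tblF4.neg r) :
    zq s * zq r * zq s * zq r = ((oddTerms r s).map zq).prod := by
  have hr' : r < 48 := nroots_eq ▸ hr.1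
  have hs' : s < 48 := nroots_eq ▸ hs.1
  have h := allBelow_iff.1 (allBelow_iff.1 comm_cover r hr') s hs'
  simp only [Bool.or_eq_true, Nat.beq_eq, Bool.not_eq_true', List.any_eq_true] at h
  have hpair : anyBelow (fun a => anyBelow (fun b => inPairB tblF4 a b r && inPairB tblF4 a b s) 4) 4 = true := by
    have e1 := (inPairB_iff cF (i := i) (j := j) hr.1).2 hr
    have e2 := (inPairB_iff cF (i := i) (j := j) hs.1).2 hs
    exact anyBelow_of hi (anyBelow_of hj (by rw [e1, e2]; rfl))
  rcases h with ((h | h) | h) | ⟨e, he, hre⟩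
  · exact absurd h h1
  · exact absurd h h2
  · rw [hpair] at h; exact absurd h (by decide)
  simp only [Bool.and_eq_true, Nat.beq_eq] at hre
  have := comm_all e he
  rw [hre.1, hre.2] at this
  have h3 := congrArg prj (eq_of_sameW this)
  rw [prj_wv_sgn, prj_wv] at h3
  simpa [mul_assoc] using h3

theorem img_relators : ∀ g ∈ chevF4.curtisTitsRels F2, FreeGroup.lift img g = 1 := by
  classical
  rintro g (((⟨r, t, hr, hnp, rfl⟩ | ⟨i, j, r, t, u, hJ, rfl⟩) | ⟨i, j, r, s, t, u, hJr, hJs, h1, h2, rfl⟩) |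
    ⟨i, j, r, t, u, hJ, ht, hu, rfl⟩)
  · rw [lift_stX _ hr, img, if_neg]
    exact fun h => by obtain ⟨i, j, h⟩ := isPairRoot_iff.1 h.1; exact hnp i j h
  · have hp := isPairRoot_iff.2 ⟨i, j, hJ⟩
    have hr : r < 49 := Nat.lt_succ_of_lt (nroots_eq ▸ hJ.1)
    rw [map_mul, map_mul, map_inv, lift_img hp, lift_img hp, lift_img hp, mul_inv_eq_one]
    rcases zmod2_cases t with rfl | rfl <;> rcases zmod2_cases u with rfl | rfl
    · simp [xq]
    · simp [xq]
    · simp [xq]
    · rw [show (1 : F2) + 1 = 0 by decide]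
      simp [xq, zq_mul_self hr]
  · obtain ⟨hi, hj, hr⟩ := inRankTwoSub_iff.1 hJr
    obtain ⟨-, -, hs⟩ := inRankTwoSub_iff.1 hJs
    rw [cF.spec.shape.neg_eq r hr.1] at h2
    have hx : ∀ q, chevF4.InRootSub {i, j} q → ∀ v : F2, FreeGroup.lift img (chevF4.stX q v) = xq q v :=
      fun q hq v => lift_img ⟨i, hi, j, hj, hq⟩ v
    rw [map_mul, map_mul, map_mul, map_mul, map_inv, map_inv, map_inv, map_stWord, hx r hr, hx s hs,
      mul_inv_eq_one, commWord_eq cF hr.1 hs.1, xword, List.map_map]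
    rw [List.map_congr_left (g := fun c => xq (tEval t u c).1 (tEval t u c).2) fun c hc => by
      obtain ⟨hq, -, -, hw⟩ := tTerms_lt cF hr.1 hs.1 c hc
      exact hx c.1 (inRootSub_comb fullCertF4 hq hw hr hs) _]
    have hr' : r < 49 := Nat.lt_succ_of_lt (nroots_eq ▸ hr.1)
    have hs' : s < 49 := Nat.lt_succ_of_lt (nroots_eq ▸ hs.1)
    have hz : ∀ (a b : F2), (a = 0 ∨ b = 0) →
        ((tTerms tblF4 r s).map fun c => xq (tEval a b c).1 (tEval a b c).2).prod = 1 := by
      intro a b hab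
      refine List.prod_eq_one fun x hx' => ?_
      obtain ⟨c, hc, rfl⟩ := List.mem_map.1 hx'
      obtain ⟨-, ha, hb, -⟩ := tTerms_lt cF hr.1 hs.1 c hc
      rw [xq, if_pos]
      rcases hab with rfl | rfl
      · rw [tEval, neg_zero, zero_pow (by omega), mul_zero, zero_mul]
      · rw [tEval, zero_pow (show c.2.2.2 ≠ 0 by omega), mul_zero]
    rcases zmod2_cases t with rfl | rfl
    · rw [hz 0 u (Or.inl rfl)]
      have e : xq r (0 : F2) = 1 := if_pos rfl
      rw [e, inv_one, mul_one, mul_one, inv_mul_cancel]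
    rcases zmod2_cases u with rfl | rfl
    · rw [hz 1 0 (Or.inr rfl)]; simp [xq]
    have e2 := comm_rel hi hj hr hs h1 h2
    unfold oddTerms at e2
    rw [xq_terms, ← e2]
    simp [xq, zq_inv hr', zq_inv hs', mul_assoc]
  · have hp := isPairRoot_iff.2 ⟨i, j, hJ⟩
    have hu' : ∀ v : F2, v ≠ 0 → v = 1 := fun v hv => (zmod2_cases v).resolve_left hv
    rw [hu' t ht, hu' u hu, mul_one]
    have hr : r < 49 := Nat.lt_succ_of_lt (nroots_eq ▸ hJ.1)
    have hn : tblF4.neg r < 49 := Nat.lt_succ_of_lt (nroots_eq ▸ cF.spec.neg_lt r hJ.1)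
    have e : FreeGroup.lift img (chevF4.stH r (1 : F2)) = 1 := by
      rw [ChevalleyDatum.stH, map_stWord, xword]
      simp only [ChevalleyDatum.hWord, ChevalleyDatum.nWord, List.cons_append, List.nil_append, List.map_cons,
        List.map_nil, List.prod_cons, List.prod_nil, mul_one, cF.spec.shape.neg_eq r hJ.1, lift_img hp,
        lift_img (isPairRoot_neg cF hp)]
      simp [xq, ← mul_assoc, zq_mul_self hr]
      rw [mul_assoc (zq r) (zq (tblF4.neg r)), zq_mul_self hn, mul_one, zq_mul_self hr]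
    rw [map_mul, map_mul, map_inv, e, inv_one, mul_one, mul_one]

end Cfsg.Lib.Chev.F4Cover
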