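import Cfsg.Agent.Lib.Chev.F4Cover.Letters

/-!
# Reading pc data in the matrix group of the letters
-/

set_option autoImplicit false

namespace Cfsg.Lib.Chev.F4Cover

open Cfsg.Lib.Concrete Cfsg.Lib.Schur Cfsg.Lib.Schur.ModSplit Cfsg.Lib.Schur.PcStem

/-- One rule holds. -/
noncomputable def ruleOk (gw : List (List ℕ)) (d : PcData) (r : ℕ) : Bool :=
  sameW (PcData.expand gw (d.rule r).1) (PcData.expand gw (d.rule r).2)

/-- One conjugation holds. -/
noncomputable def fusOk (gw fw : List (List ℕ)) (d : PcData) (i t : ℕ) : Bool :=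
  sameW (fw.getD i [] ++ PcData.expand gw ((d.fusAt i).2.1.getD t []))
    (PcData.expand gw ((d.fusAt i).2.2.getD t []) ++ fw.getD i [])

/-- A check for consecutive indices. -/
def allOn (f : ℕ → Bool) : List ℕ → Prop
  | [] => True
  | a :: l => f a = true ∧ allOn f l

theorem allOn_get {f : ℕ → Bool} : ∀ {l : List ℕ}, allOn f l → ∀ a ∈ l, f a = true
  | [], _, a, ha => absurd ha List.not_mem_nil
  | b :: l, h, a, ha => by
    rcases List.mem_cons.1 ha with rfl | ha
    · exact h.1
    · exact allOn_get h.2 a ha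

variable {H : Subgroup GL52} (hH : ∀ k < 49, Z k ∈ H)

/-- The element of a word in a subgroup containing the letters. -/
noncomputable def elH (H : Subgroup GL52) (w : List ℕ) : ↥H :=
  open Classical in if h : wv Z w ∈ H then ⟨_, h⟩ else 1

include hH in
theorem wv_mem : ∀ w : List ℕ, wv Z w ∈ H
  | [] => H.one_mem
  | a :: w => by
    rw [wv_cons]
    refine H.mul_mem ?_ (wv_mem w)
    by_cases ha : a < 49
    · exact hH a ha
    · rw [Z, dif_neg ha]; exact H.one_mem

include hH in
theorem coe_elH (w : List ℕ) : (elH H w : GL52) = wv Z w := by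
  rw [elH, dif_pos (wv_mem hH w)]

include hH in
theorem coe_wv_elH (gw : List (List ℕ)) (W : List ℕ) :
    ((wv (fun i => elH H (gw.getD i [])) W : ↥H) : GL52) = wv Z (PcData.expand gw W) := by
  induction W with
  | nil => simp [PcData.expand]
  | cons a W ih =>
    rw [wv_cons, Subgroup.coe_mul, ih, coe_elH hH, ← wv_append]
    rfl

include hH in
theorem setting_of_checks {gw fw : List (List ℕ)} {d : PcData}
    (hr : ∀ r < d.rules.length, ruleOk gw d r = true)
    (hf : ∀ i < d.fus.length, ∀ t < (d.fusAt i).2.1.length, fusOk gw fw d i t = true) :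
    Setting d (fun i => elH H (gw.getD i [])) (fun i => elH H (fw.getD i [])) := by
  refine ⟨fun r hr' => ?_, fun i hi t ht => ?_⟩
  · obtain ⟨k, hk, rfl⟩ := List.getElem_of_mem hr'
    refine Subtype.ext ?_
    rw [coe_wv_elH hH, coe_wv_elH hH]
    have h := eq_of_sameW (hr k hk)
    rwa [PcData.rule, List.getD_eq_getElem _ _ hk] at h
  · refine Subtype.ext ?_
    rw [Subgroup.coe_mul, Subgroup.coe_mul, coe_wv_elH hH, coe_wv_elH hH, coe_elH hH, ← wv_append, ← wv_append]
    exact eq_of_sameW (hf i hi t ht)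

end Cfsg.Lib.Chev.F4Cover
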