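import Cfsg.Agent.Lib.Chev.F4Cover.RootDef

/-! Kernel checks for root relations, part 1. -/

set_option autoImplicit false
set_option maxRecDepth 100000

namespace Cfsg.Lib.Chev.F4Cover

theorem comm_24_14 : commOk 24 14 0 = true := by decide +kernel

theorem comm_24_20 : commOk 24 20 0 = true := by decide +kernel

theorem comm_24_21 : commOk 24 21 0 = true := by decide +kernel

theorem comm_24_22 : commOk 24 22 0 = true := by decide +kernel

theorem comm_24_25 : commOk 24 25 0 = true := by decide +kernel

theorem comm_24_26 : commOk 24 26 0 = true := by decide +kernel

theorem comm_24_27 : commOk 24 27 0 = true := by decide +kernel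

theorem comm_24_33 : commOk 24 33 0 = true := by decide +kernel

theorem comm_25_14 : commOk 25 14 0 = true := by decide +kernel

theorem comm_25_17 : commOk 25 17 0 = true := by decide +kernel

theorem comm_25_19 : commOk 25 19 0 = true := by decide +kernel

theorem comm_25_20 : commOk 25 20 0 = true := by decide +kernel

theorem comm_25_21 : commOk 25 21 0 = true := by decide +kernel

theorem comm_25_23 : commOk 25 23 0 = true := by decide +kernel

theorem comm_25_24 : commOk 25 24 0 = true := by decide +kernel

theorem comm_25_26 : commOk 25 26 0 = true := by decide +kernel

theorem comm_25_27 : commOk 25 27 0 = true := by decide +kernel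

theorem comm_25_28 : commOk 25 28 0 = true := by decide +kernel

theorem comm_25_30 : commOk 25 30 0 = true := by decide +kernel

theorem comm_25_33 : commOk 25 33 0 = true := by decide +kernel

theorem comm_26_22 : commOk 26 22 0 = true := by decide +kernel

theorem comm_26_23 : commOk 26 23 0 = true := by decide +kernel

theorem comm_26_24 : commOk 26 24 0 = true := by decide +kernel

theorem comm_26_25 : commOk 26 25 0 = true := by decide +kernel

theorem comm_27_13 : commOk 27 13 1 = true := by decide +kernel

theorem comm_27_14 : commOk 27 14 0 = true := by decide +kernel

theorem comm_27_17 : commOk 27 17 0 = true := by decide +kernel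

theorem comm_27_19 : commOk 27 19 0 = true := by decide +kernel

theorem comm_27_22 : commOk 27 22 0 = true := by decide +kernel

theorem comm_27_23 : commOk 27 23 0 = true := by decide +kernel

theorem comm_27_24 : commOk 27 24 0 = true := by decide +kernel

theorem comm_27_25 : commOk 27 25 0 = true := by decide +kernel

theorem comm_27_28 : commOk 27 28 0 = true := by decide +kernel

theorem comm_27_30 : commOk 27 30 0 = true := by decide +kernel

theorem comm_27_33 : commOk 27 33 1 = true := by decide +kernel

theorem comm_27_34 : commOk 27 34 0 = true := by decide +kernel

theorem comm_28_17 : commOk 28 17 0 = true := by decide +kernel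

theorem comm_28_20 : commOk 28 20 0 = true := by decide +kernel

theorem comm_28_22 : commOk 28 22 0 = true := by decide +kernel

theorem comm_28_25 : commOk 28 25 0 = true := by decide +kernel

theorem comm_28_27 : commOk 28 27 0 = true := by decide +kernel

theorem comm_28_30 : commOk 28 30 0 = true := by decide +kernel

theorem comm_30_19 : commOk 30 19 0 = true := by decide +kernel

theorem comm_30_20 : commOk 30 20 0 = true := by decide +kernel

theorem comm_30_22 : commOk 30 22 0 = true := by decide +kernel

theorem comm_30_25 : commOk 30 25 0 = true := by decide +kernel

theorem comm_30_27 : commOk 30 27 0 = true := by decide +kernel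

theorem comm_30_28 : commOk 30 28 0 = true := by decide +kernel

theorem comm_33_13 : commOk 33 13 1 = true := by decide +kernel

theorem comm_33_20 : commOk 33 20 0 = true := by decide +kernel

theorem comm_33_22 : commOk 33 22 0 = true := by decide +kernel

theorem comm_33_23 : commOk 33 23 0 = true := by decide +kernel

theorem comm_33_24 : commOk 33 24 0 = true := by decide +kernel

theorem comm_33_25 : commOk 33 25 0 = true := by decide +kernel

theorem comm_33_27 : commOk 33 27 1 = true := by decide +kernel

theorem comm_33_34 : commOk 33 34 0 = true := by decide +kernel

theorem comm_34_14 : commOk 34 14 1 = true := by decide +kernel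

theorem comm_34_20 : commOk 34 20 1 = true := by decide +kernel

theorem comm_34_27 : commOk 34 27 0 = true := by decide +kernel

theorem comm_34_33 : commOk 34 33 0 = true := by decide +kernel

end Cfsg.Lib.Chev.F4Cover
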