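import Cfsg.Agent.Lib.Chev.F4Cover.RootDef

/-! Kernel checks for root relations, part 2. -/

set_option autoImplicit false
set_option maxRecDepth 100000

namespace Cfsg.Lib.Chev.F4Cover

theorem conj_34 : conjOk 34 1 33 0 = true := by decide +kernel

theorem conj_28 : conjOk 28 2 27 0 = true := by decide +kernel

theorem conj_30 : conjOk 30 1 25 0 = true := by decide +kernel

theorem conj_26 : conjOk 26 3 25 0 = true := by decide +kernel

theorem conj_13 : conjOk 13 1 14 0 = true := by decide +kernel

theorem conj_19 : conjOk 19 2 20 0 = true := by decide +kernel

theorem conj_17 : conjOk 17 1 22 0 = true := by decide +kernel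

theorem conj_21 : conjOk 21 3 22 0 = true := by decide +kernel

theorem conj_35 : conjOk 35 2 34 0 = true := by decide +kernel

theorem conj_29 : conjOk 29 3 28 0 = true := by decide +kernel

theorem conj_41 : conjOk 41 0 30 0 = true := by decide +kernel

theorem conj_31 : conjOk 31 3 30 0 = true := by decide +kernel

theorem conj_12 : conjOk 12 2 13 0 = true := by decide +kernel

theorem conj_18 : conjOk 18 3 19 0 = true := by decide +kernel

theorem conj_6 : conjOk 6 0 17 0 = true := by decide +kernel

theorem conj_16 : conjOk 16 3 17 0 = true := by decide +kernel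

theorem conj_37 : conjOk 37 1 35 0 = true := by decide +kernel

theorem conj_36 : conjOk 36 3 35 0 = true := by decide +kernel

theorem conj_42 : conjOk 42 3 41 0 = true := by decide +kernel

theorem conj_32 : conjOk 32 2 31 0 = true := by decide +kernel

theorem conj_10 : conjOk 10 1 12 0 = true := by decide +kernel

theorem conj_11 : conjOk 11 3 12 0 = true := by decide +kernel

theorem conj_5 : conjOk 5 3 6 0 = true := by decide +kernel

theorem conj_15 : conjOk 15 2 16 0 = true := by decide +kernel

theorem conj_38 : conjOk 38 3 37 0 = true := by decide +kernel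

theorem conj_43 : conjOk 43 2 42 0 = true := by decide +kernel

theorem conj_9 : conjOk 9 3 10 0 = true := by decide +kernel

theorem conj_4 : conjOk 4 2 5 0 = true := by decide +kernel

theorem conj_39 : conjOk 39 2 38 0 = true := by decide +kernel

theorem conj_45 : conjOk 45 1 43 0 = true := by decide +kernel

theorem conj_8 : conjOk 8 2 9 0 = true := by decide +kernel

theorem conj_2 : conjOk 2 1 4 0 = true := by decide +kernel

theorem conj_40 : conjOk 40 1 39 0 = true := by decide +kernel

theorem conj_46 : conjOk 46 2 45 0 = true := by decide +kernel

theorem conj_7 : conjOk 7 1 8 0 = true := by decide +kernel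

theorem conj_1 : conjOk 1 2 2 0 = true := by decide +kernel

theorem conj_44 : conjOk 44 0 40 0 = true := by decide +kernel

theorem conj_47 : conjOk 47 3 46 0 = true := by decide +kernel

theorem conj_3 : conjOk 3 0 7 0 = true := by decide +kernel

theorem conj_0 : conjOk 0 3 1 0 = true := by decide +kernel

end Cfsg.Lib.Chev.F4Cover
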