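import Cfsg.Agent.Lib.Chev.F4Cover.RootChk0
import Cfsg.Agent.Lib.Chev.F4Cover.RootChk1
import Cfsg.Agent.Lib.Chev.F4Cover.RootChk2

/-! All root relations of the double cover hold. -/

set_option autoImplicit false
set_option maxRecDepth 100000

namespace Cfsg.Lib.Chev.F4Cover

theorem comm_part_0 : ∀ e ∈ [(13, 14, 0), (13, 20, 0), (13, 27, 1), (13, 33, 1), (14, 13, 0), (14, 20, 1), (14, 22, 0), (14, 23, 0), (14, 24, 0), (14, 25, 0), (14, 27, 0), (14, 34, 1), (17, 19, 0), (17, 20, 0), (17, 22, 0), (17, 25, 0), (17, 27, 0), (17, 28, 0), (19, 17, 0), (19, 20, 0)],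
    commOk e.1 e.2.1 e.2.2 = true :=
  List.forall_mem_cons.2 ⟨comm_13_14,
    List.forall_mem_cons.2 ⟨comm_13_20,
    List.forall_mem_cons.2 ⟨comm_13_27,
    List.forall_mem_cons.2 ⟨comm_13_33,
    List.forall_mem_cons.2 ⟨comm_14_13,
    List.forall_mem_cons.2 ⟨comm_14_20,
    List.forall_mem_cons.2 ⟨comm_14_22,
    List.forall_mem_cons.2 ⟨comm_14_23,
    List.forall_mem_cons.2 ⟨comm_14_24,
    List.forall_mem_cons.2 ⟨comm_14_25,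
    List.forall_mem_cons.2 ⟨comm_14_27,
    List.forall_mem_cons.2 ⟨comm_14_34,
    List.forall_mem_cons.2 ⟨comm_17_19,
    List.forall_mem_cons.2 ⟨comm_17_20,
    List.forall_mem_cons.2 ⟨comm_17_22,
    List.forall_mem_cons.2 ⟨comm_17_25,
    List.forall_mem_cons.2 ⟨comm_17_27,
    List.forall_mem_cons.2 ⟨comm_17_28,
    List.forall_mem_cons.2 ⟨comm_19_17,
    List.forall_mem_cons.2 ⟨comm_19_20,
    List.forall_mem_nil _⟩⟩⟩⟩⟩⟩⟩⟩⟩⟩⟩⟩⟩⟩⟩⟩⟩⟩⟩⟩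

theorem comm_part_1 : ∀ e ∈ [(19, 22, 0), (19, 25, 0), (19, 27, 0), (19, 30, 0), (20, 13, 0), (20, 14, 1), (20, 17, 0), (20, 19, 0), (20, 22, 0), (20, 23, 0), (20, 24, 0), (20, 25, 0), (20, 28, 0), (20, 30, 0), (20, 33, 0), (20, 34, 1), (21, 22, 0), (21, 23, 0), (21, 24, 0), (21, 25, 0)],
    commOk e.1 e.2.1 e.2.2 = true :=
  List.forall_mem_cons.2 ⟨comm_19_22,
    List.forall_mem_cons.2 ⟨comm_19_25,
    List.forall_mem_cons.2 ⟨comm_19_27,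
    List.forall_mem_cons.2 ⟨comm_19_30,
    List.forall_mem_cons.2 ⟨comm_20_13,
    List.forall_mem_cons.2 ⟨comm_20_14,
    List.forall_mem_cons.2 ⟨comm_20_17,
    List.forall_mem_cons.2 ⟨comm_20_19,
    List.forall_mem_cons.2 ⟨comm_20_22,
    List.forall_mem_cons.2 ⟨comm_20_23,
    List.forall_mem_cons.2 ⟨comm_20_24,
    List.forall_mem_cons.2 ⟨comm_20_25,
    List.forall_mem_cons.2 ⟨comm_20_28,
    List.forall_mem_cons.2 ⟨comm_20_30,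
    List.forall_mem_cons.2 ⟨comm_20_33,
    List.forall_mem_cons.2 ⟨comm_20_34,
    List.forall_mem_cons.2 ⟨comm_21_22,
    List.forall_mem_cons.2 ⟨comm_21_23,
    List.forall_mem_cons.2 ⟨comm_21_24,
    List.forall_mem_cons.2 ⟨comm_21_25,
    List.forall_mem_nil _⟩⟩⟩⟩⟩⟩⟩⟩⟩⟩⟩⟩⟩⟩⟩⟩⟩⟩⟩⟩

theorem comm_part_2 : ∀ e ∈ [(22, 14, 0), (22, 17, 0), (22, 19, 0), (22, 20, 0), (22, 21, 0), (22, 23, 0), (22, 24, 0), (22, 26, 0), (22, 27, 0), (22, 28, 0), (22, 30, 0), (22, 33, 0), (23, 14, 0), (23, 20, 0), (23, 21, 0), (23, 22, 0), (23, 25, 0), (23, 26, 0), (23, 27, 0), (23, 33, 0)],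
    commOk e.1 e.2.1 e.2.2 = true :=
  List.forall_mem_cons.2 ⟨comm_22_14,
    List.forall_mem_cons.2 ⟨comm_22_17,
    List.forall_mem_cons.2 ⟨comm_22_19,
    List.forall_mem_cons.2 ⟨comm_22_20,
    List.forall_mem_cons.2 ⟨comm_22_21,
    List.forall_mem_cons.2 ⟨comm_22_23,
    List.forall_mem_cons.2 ⟨comm_22_24,
    List.forall_mem_cons.2 ⟨comm_22_26,
    List.forall_mem_cons.2 ⟨comm_22_27,
    List.forall_mem_cons.2 ⟨comm_22_28,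
    List.forall_mem_cons.2 ⟨comm_22_30,
    List.forall_mem_cons.2 ⟨comm_22_33,
    List.forall_mem_cons.2 ⟨comm_23_14,
    List.forall_mem_cons.2 ⟨comm_23_20,
    List.forall_mem_cons.2 ⟨comm_23_21,
    List.forall_mem_cons.2 ⟨comm_23_22,
    List.forall_mem_cons.2 ⟨comm_23_25,
    List.forall_mem_cons.2 ⟨comm_23_26,
    List.forall_mem_cons.2 ⟨comm_23_27,
    List.forall_mem_cons.2 ⟨comm_23_33,
    List.forall_mem_nil _⟩⟩⟩⟩⟩⟩⟩⟩⟩⟩⟩⟩⟩⟩⟩⟩⟩⟩⟩⟩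

theorem comm_part_3 : ∀ e ∈ [(24, 14, 0), (24, 20, 0), (24, 21, 0), (24, 22, 0), (24, 25, 0), (24, 26, 0), (24, 27, 0), (24, 33, 0), (25, 14, 0), (25, 17, 0), (25, 19, 0), (25, 20, 0), (25, 21, 0), (25, 23, 0), (25, 24, 0), (25, 26, 0), (25, 27, 0), (25, 28, 0), (25, 30, 0), (25, 33, 0)],
    commOk e.1 e.2.1 e.2.2 = true :=
  List.forall_mem_cons.2 ⟨comm_24_14,
    List.forall_mem_cons.2 ⟨comm_24_20,
    List.forall_mem_cons.2 ⟨comm_24_21,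
    List.forall_mem_cons.2 ⟨comm_24_22,
    List.forall_mem_cons.2 ⟨comm_24_25,
    List.forall_mem_cons.2 ⟨comm_24_26,
    List.forall_mem_cons.2 ⟨comm_24_27,
    List.forall_mem_cons.2 ⟨comm_24_33,
    List.forall_mem_cons.2 ⟨comm_25_14,
    List.forall_mem_cons.2 ⟨comm_25_17,
    List.forall_mem_cons.2 ⟨comm_25_19,
    List.forall_mem_cons.2 ⟨comm_25_20,
    List.forall_mem_cons.2 ⟨comm_25_21,
    List.forall_mem_cons.2 ⟨comm_25_23,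
    List.forall_mem_cons.2 ⟨comm_25_24,
    List.forall_mem_cons.2 ⟨comm_25_26,
    List.forall_mem_cons.2 ⟨comm_25_27,
    List.forall_mem_cons.2 ⟨comm_25_28,
    List.forall_mem_cons.2 ⟨comm_25_30,
    List.forall_mem_cons.2 ⟨comm_25_33,
    List.forall_mem_nil _⟩⟩⟩⟩⟩⟩⟩⟩⟩⟩⟩⟩⟩⟩⟩⟩⟩⟩⟩⟩

theorem comm_part_4 : ∀ e ∈ [(26, 22, 0), (26, 23, 0), (26, 24, 0), (26, 25, 0), (27, 13, 1), (27, 14, 0), (27, 17, 0), (27, 19, 0), (27, 22, 0), (27, 23, 0), (27, 24, 0), (27, 25, 0), (27, 28, 0), (27, 30, 0), (27, 33, 1), (27, 34, 0), (28, 17, 0), (28, 20, 0), (28, 22, 0), (28, 25, 0)],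
    commOk e.1 e.2.1 e.2.2 = true :=
  List.forall_mem_cons.2 ⟨comm_26_22,
    List.forall_mem_cons.2 ⟨comm_26_23,
    List.forall_mem_cons.2 ⟨comm_26_24,
    List.forall_mem_cons.2 ⟨comm_26_25,
    List.forall_mem_cons.2 ⟨comm_27_13,
    List.forall_mem_cons.2 ⟨comm_27_14,
    List.forall_mem_cons.2 ⟨comm_27_17,
    List.forall_mem_cons.2 ⟨comm_27_19,
    List.forall_mem_cons.2 ⟨comm_27_22,
    List.forall_mem_cons.2 ⟨comm_27_23,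
    List.forall_mem_cons.2 ⟨comm_27_24,
    List.forall_mem_cons.2 ⟨comm_27_25,
    List.forall_mem_cons.2 ⟨comm_27_28,
    List.forall_mem_cons.2 ⟨comm_27_30,
    List.forall_mem_cons.2 ⟨comm_27_33,
    List.forall_mem_cons.2 ⟨comm_27_34,
    List.forall_mem_cons.2 ⟨comm_28_17,
    List.forall_mem_cons.2 ⟨comm_28_20,
    List.forall_mem_cons.2 ⟨comm_28_22,
    List.forall_mem_cons.2 ⟨comm_28_25,
    List.forall_mem_nil _⟩⟩⟩⟩⟩⟩⟩⟩⟩⟩⟩⟩⟩⟩⟩⟩⟩⟩⟩⟩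

theorem comm_part_5 : ∀ e ∈ [(28, 27, 0), (28, 30, 0), (30, 19, 0), (30, 20, 0), (30, 22, 0), (30, 25, 0), (30, 27, 0), (30, 28, 0), (33, 13, 1), (33, 20, 0), (33, 22, 0), (33, 23, 0), (33, 24, 0), (33, 25, 0), (33, 27, 1), (33, 34, 0), (34, 14, 1), (34, 20, 1), (34, 27, 0), (34, 33, 0)],
    commOk e.1 e.2.1 e.2.2 = true :=
  List.forall_mem_cons.2 ⟨comm_28_27,
    List.forall_mem_cons.2 ⟨comm_28_30,
    List.forall_mem_cons.2 ⟨comm_30_19,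
    List.forall_mem_cons.2 ⟨comm_30_20,
    List.forall_mem_cons.2 ⟨comm_30_22,
    List.forall_mem_cons.2 ⟨comm_30_25,
    List.forall_mem_cons.2 ⟨comm_30_27,
    List.forall_mem_cons.2 ⟨comm_30_28,
    List.forall_mem_cons.2 ⟨comm_33_13,
    List.forall_mem_cons.2 ⟨comm_33_20,
    List.forall_mem_cons.2 ⟨comm_33_22,
    List.forall_mem_cons.2 ⟨comm_33_23,
    List.forall_mem_cons.2 ⟨comm_33_24,
    List.forall_mem_cons.2 ⟨comm_33_25,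
    List.forall_mem_cons.2 ⟨comm_33_27,
    List.forall_mem_cons.2 ⟨comm_33_34,
    List.forall_mem_cons.2 ⟨comm_34_14,
    List.forall_mem_cons.2 ⟨comm_34_20,
    List.forall_mem_cons.2 ⟨comm_34_27,
    List.forall_mem_cons.2 ⟨comm_34_33,
    List.forall_mem_nil _⟩⟩⟩⟩⟩⟩⟩⟩⟩⟩⟩⟩⟩⟩⟩⟩⟩⟩⟩⟩

theorem comm_all : ∀ e ∈ commData, commOk e.1 e.2.1 e.2.2 = true := by
  intro e he
  have h : e ∈ [(13, 14, 0), (13, 20, 0), (13, 27, 1), (13, 33, 1), (14, 13, 0), (14, 20, 1), (14, 22, 0), (14, 23, 0), (14, 24, 0), (14, 25, 0), (14, 27, 0), (14, 34, 1), (17, 19, 0), (17, 20, 0), (17, 22, 0), (17, 25, 0), (17, 27, 0), (17, 28, 0), (19, 17, 0), (19, 20, 0)] ++ [(19, 22, 0), (19, 25, 0), (19, 27, 0), (19, 30, 0), (20, 13, 0), (20, 14, 1), (20, 17, 0), (20, 19, 0), (20, 22, 0), (20, 23, 0), (20, 24, 0), (20, 25, 0), (20, 28, 0), (20, 30, 0), (20, 33, 0), (20, 34, 1), (21,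 22, 0), (21, 23, 0), (21, 24, 0), (21, 25, 0)] ++ [(22, 14, 0), (22, 17, 0), (22, 19, 0), (22, 20, 0), (22, 21, 0), (22, 23, 0), (22, 24, 0), (22, 26, 0), (22, 27, 0), (22, 28, 0), (22, 30, 0), (22, 33, 0), (23, 14, 0), (23, 20, 0), (23, 21, 0), (23, 22, 0), (23, 25, 0), (23, 26, 0), (23, 27, 0), (23, 33, 0)] ++ [(24, 14, 0), (24, 20, 0), (24, 21, 0), (24, 22, 0), (24, 25, 0), (24, 26, 0), (24, 27, 0), (24, 33, 0), (25, 14, 0), (25, 17, 0), (25, 19, 0), (25, 20, 0), (25, 21, 0), (25, 23, 0), (25, 24, 0), (25, 26, 0), (25, 27, 0), (25, 28, 0), (25, 30, 0), (25, 33, 0)] ++ [(26, 22, 0), (26, 23, 0), (26, 24, 0), (26, 25, 0), (27, 13, 1), (27, 14, 0), (27, 17, 0), (27, 19, 0), (27, 22, 0), (27, 23, 0), (27, 24, 0), (27, 25, 0), (27, 28, 0), (27, 30, 0), (27, 33, 1), (27, 34, 0), (28, 17, 0), (28, 20, 0), (28, 22, 0), (28, 25, 0)] ++ [(28, 27, 0), (28, 30,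 0), (30, 19, 0), (30, 20, 0), (30, 22, 0), (30, 25, 0), (30, 27, 0), (30, 28, 0), (33, 13, 1), (33, 20, 0), (33, 22, 0), (33, 23, 0), (33, 24, 0), (33, 25, 0), (33, 27, 1), (33, 34, 0), (34, 14, 1), (34, 20, 1), (34, 27, 0), (34, 33, 0)] := he
  simp only [List.mem_append] at h
  rcases h with (((((h | h) | h) | h) | h) | h)
  · exact comm_part_0 e h
  · exact comm_part_1 e h
  · exact comm_part_2 e h
  · exact comm_part_3 e h
  · exact comm_part_4 e h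
  · exact comm_part_5 e h

/-- A chain of reflections reaching every root from the fundamental ones and their negatives. -/
def conjData : List (ℕ × ℕ × ℕ × ℕ) :=
  [(34, 1, 33, 0),
   (28, 2, 27, 0),
   (30, 1, 25, 0),
   (26, 3, 25, 0),
   (13, 1, 14, 0),
   (19, 2, 20, 0),
   (17, 1, 22, 0),
   (21, 3, 22, 0),
   (35, 2, 34, 0),
   (29, 3, 28, 0),
   (41, 0, 30, 0),
   (31, 3, 30, 0),
   (12, 2, 13, 0),
   (18, 3, 19, 0),
   (6, 0, 17, 0),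
   (16, 3, 17, 0),
   (37, 1, 35, 0),
   (36, 3, 35, 0),
   (42, 3, 41, 0),
   (32, 2, 31, 0),
   (10, 1, 12, 0),
   (11, 3, 12, 0),
   (5, 3, 6, 0),
   (15, 2, 16, 0),
   (38, 3, 37, 0),
   (43, 2, 42, 0),
   (9, 3, 10, 0),
   (4, 2, 5, 0),
   (39, 2, 38, 0),
   (45, 1, 43, 0),
   (8, 2, 9, 0),
   (2, 1, 4, 0),
   (40, 1, 39, 0),
   (46, 2, 45, 0),
   (7, 1, 8, 0),
   (1, 2, 2, 0),
   (44, 0, 40, 0),
   (47, 3, 46, 0),
   (3, 0, 7, 0),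
   (0, 3, 1, 0)]

theorem conj_all : ∀ e ∈ conjData, conjOk e.1 e.2.1 e.2.2.1 e.2.2.2 = true :=
  List.forall_mem_cons.2 ⟨conj_34,
    List.forall_mem_cons.2 ⟨conj_28,
    List.forall_mem_cons.2 ⟨conj_30,
    List.forall_mem_cons.2 ⟨conj_26,
    List.forall_mem_cons.2 ⟨conj_13,
    List.forall_mem_cons.2 ⟨conj_19,
    List.forall_mem_cons.2 ⟨conj_17,
    List.forall_mem_cons.2 ⟨conj_21,
    List.forall_mem_cons.2 ⟨conj_35,
    List.forall_mem_cons.2 ⟨conj_29,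
    List.forall_mem_cons.2 ⟨conj_41,
    List.forall_mem_cons.2 ⟨conj_31,
    List.forall_mem_cons.2 ⟨conj_12,
    List.forall_mem_cons.2 ⟨conj_18,
    List.forall_mem_cons.2 ⟨conj_6,
    List.forall_mem_cons.2 ⟨conj_16,
    List.forall_mem_cons.2 ⟨conj_37,
    List.forall_mem_cons.2 ⟨conj_36,
    List.forall_mem_cons.2 ⟨conj_42,
    List.forall_mem_cons.2 ⟨conj_32,
    List.forall_mem_cons.2 ⟨conj_10,
    List.forall_mem_cons.2 ⟨conj_11,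
    List.forall_mem_cons.2 ⟨conj_5,
    List.forall_mem_cons.2 ⟨conj_15,
    List.forall_mem_cons.2 ⟨conj_38,
    List.forall_mem_cons.2 ⟨conj_43,
    List.forall_mem_cons.2 ⟨conj_9,
    List.forall_mem_cons.2 ⟨conj_4,
    List.forall_mem_cons.2 ⟨conj_39,
    List.forall_mem_cons.2 ⟨conj_45,
    List.forall_mem_cons.2 ⟨conj_8,
    List.forall_mem_cons.2 ⟨conj_2,
    List.forall_mem_cons.2 ⟨conj_40,
    List.forall_mem_cons.2 ⟨conj_46,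
    List.forall_mem_cons.2 ⟨conj_7,
    List.forall_mem_cons.2 ⟨conj_1,
    List.forall_mem_cons.2 ⟨conj_44,
    List.forall_mem_cons.2 ⟨conj_47,
    List.forall_mem_cons.2 ⟨conj_3,
    List.forall_mem_cons.2 ⟨conj_0,
    List.forall_mem_nil _⟩⟩⟩⟩⟩⟩⟩⟩⟩⟩⟩⟩⟩⟩⟩⟩⟩⟩⟩⟩⟩⟩⟩⟩⟩⟩⟩⟩⟩⟩⟩⟩⟩⟩⟩⟩⟩⟩⟩⟩

end Cfsg.Lib.Chev.F4Cover
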