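import Cfsg.Agent.Lib.Chev.F4Cover.RootDef

/-! Kernel checks for root relations, part 0. -/

set_option autoImplicit false
set_option maxRecDepth 100000

namespace Cfsg.Lib.Chev.F4Cover

theorem comm_13_14 : commOk 13 14 0 = true := by decide +kernel

theorem comm_13_20 : commOk 13 20 0 = true := by decide +kernel

theorem comm_13_27 : commOk 13 27 1 = true := by decide +kernel

theorem comm_13_33 : commOk 13 33 1 = true := by decide +kernel

theorem comm_14_13 : commOk 14 13 0 = true := by decide +kernel

theorem comm_14_20 : commOk 14 20 1 = true := by decide +kernel

theorem comm_14_22 : commOk 14 22 0 = true := by decide +kernel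

theorem comm_14_23 : commOk 14 23 0 = true := by decide +kernel

theorem comm_14_24 : commOk 14 24 0 = true := by decide +kernel

theorem comm_14_25 : commOk 14 25 0 = true := by decide +kernel

theorem comm_14_27 : commOk 14 27 0 = true := by decide +kernel

theorem comm_14_34 : commOk 14 34 1 = true := by decide +kernel

theorem comm_17_19 : commOk 17 19 0 = true := by decide +kernel

theorem comm_17_20 : commOk 17 20 0 = true := by decide +kernel

theorem comm_17_22 : commOk 17 22 0 = true := by decide +kernel

theorem comm_17_25 : commOk 17 25 0 = true := by decide +kernel

theorem comm_17_27 : commOk 17 27 0 = true := by decide +kernel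

theorem comm_17_28 : commOk 17 28 0 = true := by decide +kernel

theorem comm_19_17 : commOk 19 17 0 = true := by decide +kernel

theorem comm_19_20 : commOk 19 20 0 = true := by decide +kernel

theorem comm_19_22 : commOk 19 22 0 = true := by decide +kernel

theorem comm_19_25 : commOk 19 25 0 = true := by decide +kernel

theorem comm_19_27 : commOk 19 27 0 = true := by decide +kernel

theorem comm_19_30 : commOk 19 30 0 = true := by decide +kernel

theorem comm_20_13 : commOk 20 13 0 = true := by decide +kernel

theorem comm_20_14 : commOk 20 14 1 = true := by decide +kernel

theorem comm_20_17 : commOk 20 17 0 = true := by decide +kernel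

theorem comm_20_19 : commOk 20 19 0 = true := by decide +kernel

theorem comm_20_22 : commOk 20 22 0 = true := by decide +kernel

theorem comm_20_23 : commOk 20 23 0 = true := by decide +kernel

theorem comm_20_24 : commOk 20 24 0 = true := by decide +kernel

theorem comm_20_25 : commOk 20 25 0 = true := by decide +kernel

theorem comm_20_28 : commOk 20 28 0 = true := by decide +kernel

theorem comm_20_30 : commOk 20 30 0 = true := by decide +kernel

theorem comm_20_33 : commOk 20 33 0 = true := by decide +kernel

theorem comm_20_34 : commOk 20 34 1 = true := by decide +kernel

theorem comm_21_22 : commOk 21 22 0 = true := by decide +kernel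

theorem comm_21_23 : commOk 21 23 0 = true := by decide +kernel

theorem comm_21_24 : commOk 21 24 0 = true := by decide +kernel

theorem comm_21_25 : commOk 21 25 0 = true := by decide +kernel

theorem comm_22_14 : commOk 22 14 0 = true := by decide +kernel

theorem comm_22_17 : commOk 22 17 0 = true := by decide +kernel

theorem comm_22_19 : commOk 22 19 0 = true := by decide +kernel

theorem comm_22_20 : commOk 22 20 0 = true := by decide +kernel

theorem comm_22_21 : commOk 22 21 0 = true := by decide +kernel

theorem comm_22_23 : commOk 22 23 0 = true := by decide +kernel

theorem comm_22_24 : commOk 22 24 0 = true := by decide +kernel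

theorem comm_22_26 : commOk 22 26 0 = true := by decide +kernel

theorem comm_22_27 : commOk 22 27 0 = true := by decide +kernel

theorem comm_22_28 : commOk 22 28 0 = true := by decide +kernel

theorem comm_22_30 : commOk 22 30 0 = true := by decide +kernel

theorem comm_22_33 : commOk 22 33 0 = true := by decide +kernel

theorem comm_23_14 : commOk 23 14 0 = true := by decide +kernel

theorem comm_23_20 : commOk 23 20 0 = true := by decide +kernel

theorem comm_23_21 : commOk 23 21 0 = true := by decide +kernel

theorem comm_23_22 : commOk 23 22 0 = true := by decide +kernel

theorem comm_23_25 : commOk 23 25 0 = true := by decide +kernel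

theorem comm_23_26 : commOk 23 26 0 = true := by decide +kernel

theorem comm_23_27 : commOk 23 27 0 = true := by decide +kernel

theorem comm_23_33 : commOk 23 33 0 = true := by decide +kernel

end Cfsg.Lib.Chev.F4Cover
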