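import Cfsg.Agent.Lib.Chev.F4Cover.Letters
import Cfsg.Agent.Lib.Chev.FullAll
import Cfsg.Agent.Lib.Chev.Presentation.Conj

/-! Data and checks for the root relations of the double cover. -/

set_option autoImplicit false
set_option maxRecDepth 100000

namespace Cfsg.Lib.Chev.F4Cover

/-- The sign word. -/
def sgnW (b : ℕ) : List ℕ := if Nat.beq b 1 then [48] else []

/-- The roots of the terms of the commutator formula with odd coefficient. -/
def oddTerms (r s : ℕ) : List ℕ := ((tTerms tblF4 r s).filter fun c => decide (c.2.1 % 2 ≠ 0)).map Prod.fst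

/-- A commutator relation up to the recorded sign. -/
noncomputable def commOk (r s b : ℕ) : Bool :=
  sameW [s, r, s, r] (oddTerms r s ++ sgnW b)

/-- The word of a fundamental reflection. -/
def nWord (i : ℕ) : List ℕ := [tblF4.simp' i, tblF4.neg (tblF4.simp' i), tblF4.simp' i]

/-- A reflection relation up to the recorded sign. -/
noncomputable def conjOk (r i q b : ℕ) : Bool :=
  Nat.beq (tblF4.refl' i q) r && sameW (nWord i ++ q :: nWord i ++ sgnW b) [r]

/-- The pairs with their signs. -/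
def commData : List (ℕ × ℕ × ℕ) :=
  [(13, 14, 0), (13, 20, 0), (13, 27, 1), (13, 33, 1), (14, 13, 0), (14, 20, 1), (14, 22, 0), (14, 23, 0),
  (14, 24, 0), (14, 25, 0), (14, 27, 0), (14, 34, 1), (17, 19, 0), (17, 20, 0), (17, 22, 0), (17, 25, 0),
  (17, 27, 0), (17, 28, 0), (19, 17, 0), (19, 20, 0), (19, 22, 0), (19, 25, 0), (19, 27, 0), (19, 30, 0),
  (20, 13, 0), (20, 14, 1), (20, 17, 0), (20, 19, 0), (20, 22, 0), (20, 23, 0), (20, 24, 0), (20, 25, 0),
  (20, 28, 0), (20, 30, 0), (20, 33, 0), (20, 34, 1), (21, 22, 0), (21, 23, 0), (21, 24, 0), (21, 25, 0),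
  (22, 14, 0), (22, 17, 0), (22, 19, 0), (22, 20, 0), (22, 21, 0), (22, 23, 0), (22, 24, 0), (22, 26, 0),
  (22, 27, 0), (22, 28, 0), (22, 30, 0), (22, 33, 0), (23, 14, 0), (23, 20, 0), (23, 21, 0), (23, 22, 0),
  (23, 25, 0), (23, 26, 0), (23, 27, 0), (23, 33, 0), (24, 14, 0), (24, 20, 0), (24, 21, 0), (24, 22, 0),
  (24, 25, 0), (24, 26, 0), (24, 27, 0), (24, 33, 0), (25, 14, 0), (25, 17, 0), (25, 19, 0), (25, 20, 0),
  (25, 21, 0), (25, 23, 0), (25, 24, 0), (25, 26, 0), (25, 27, 0), (25, 28, 0), (25, 30, 0), (25, 33, 0),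
  (26, 22, 0), (26, 23, 0), (26, 24, 0), (26, 25, 0), (27, 13, 1), (27, 14, 0), (27, 17, 0), (27, 19, 0),
  (27, 22, 0), (27, 23, 0), (27, 24, 0), (27, 25, 0), (27, 28, 0), (27, 30, 0), (27, 33, 1), (27, 34, 0),
  (28, 17, 0), (28, 20, 0), (28, 22, 0), (28, 25, 0), (28, 27, 0), (28, 30, 0), (30, 19, 0), (30, 20, 0),
  (30, 22, 0), (30, 25, 0), (30, 27, 0), (30, 28, 0), (33, 13, 1), (33, 20, 0), (33, 22, 0), (33, 23, 0),
  (33, 24, 0), (33, 25, 0), (33, 27, 1), (33, 34, 0), (34, 14, 1), (34, 20, 1), (34, 27, 0), (34, 33, 0)]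

/-- All pairs of roots in subsystems of rank two are listed. -/
noncomputable def commCover : Bool :=
  allBelow (fun r => allBelow (fun s => Nat.beq s r || Nat.beq s (tblF4.neg r) ||
    !(anyBelow (fun i => anyBelow (fun j => inPairB tblF4 i j r && inPairB tblF4 i j s) 4) 4) ||
    commData.any fun e => Nat.beq e.1 r && Nat.beq e.2.1 s) 48) 48

theorem comm_cover : commCover = true := by decide +kernel

end Cfsg.Lib.Chev.F4Cover
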